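import Cfsg.Agent.Lib.OmegaSevenThree.Pres
import Cfsg.Agent.Lib.CosetEnum.Trans.StemBound

/-!
# Stem extensions of PΩ(7, 3) have cyclic kernels of order dividing six
-/

set_option autoImplicit false
set_option maxRecDepth 100000

open scoped commutatorElement

namespace Cfsg.Lib.OmegaSevenThree

open Cfsg.Lib.CosetEnum
open Fi22O73Pts (tabP words1)

/-- Lifts of the transpositions, given that a lift of the first is fixed over its stabiliser. -/
theorem lifts_of_fix {G : Type} [Group G] {n : ℕ} (A : TransTable G n) {E : Type} [Group E] {σ : E →* G}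
    (hσ : Function.Surjective σ) (hker : σ.ker ≤ Subgroup.center E) (hd2 : A.d * A.d = 1) (x₀ : E)
    (hx₀ : σ x₀ = A.d) (hfix : ∀ a : E, A.f (σ a) A.p₀ = A.p₀ → a * x₀ * a⁻¹ = x₀) :
    ∃ (Q : Type) (_ : Group Q) (π : Q →* G) (ι : E →* Q), π.ker ≤ Subgroup.center Q ∧
      Function.Injective ι ∧ π.comp ι = σ ∧ Nonempty (A.Lifts π) := by
  have hz : ∀ e, σ e = 1 → ∀ a : E, a * e = e * a := fun e he a =>
    Subgroup.mem_center_iff.1 (hker he) a
  choose m hm using fun p : Fin n => hσ (A.mover p)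
  let X : Fin n → E := fun p => m p * x₀ * (m p)⁻¹
  have hX : ∀ a : E, X (A.f (σ a) A.p₀) = a * x₀ * a⁻¹ := by
    intro a
    set p := A.f (σ a) A.p₀
    have hc : A.f (σ ((m p)⁻¹ * a)) A.p₀ = A.p₀ := by
      rw [map_mul, map_inv, hm, map_mul, Equiv.Perm.mul_apply, map_inv, Equiv.Perm.inv_def,
        Equiv.symm_apply_eq, A.mover_spec]
    have := hfix _ hc
    calc m p * x₀ * (m p)⁻¹ = m p * ((m p)⁻¹ * a * x₀ * ((m p)⁻¹ * a)⁻¹) * (m p)⁻¹ := by rw [this]
      _ = a * x₀ * a⁻¹ := by group
  have hXσ : ∀ p, σ (X p) = A.delta p := fun p => by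
    simp only [X, map_mul, map_inv, hm, hx₀]; rfl
  have hXconj : ∀ (a : E) (p : Fin n), a * X p * a⁻¹ = X (A.f (σ a) p) := by
    intro a p
    have := hX (a * m p)
    rw [map_mul, map_mul, Equiv.Perm.mul_apply, hm, A.mover_spec] at this
    rw [this]
    simp only [X]
    group
  set z := x₀ * x₀
  have hzker : σ z = 1 := by rw [map_mul, hx₀, hd2]
  have hXsq : ∀ p, X p * X p = z := by
    intro p
    calc X p * X p = m p * z * (m p)⁻¹ := by simp only [X, z]; group
      _ = z := by rw [hz z hzker, mul_inv_cancel_right]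
  let w : E × Multiplicative ℤ := (z, Multiplicative.ofAdd (-2))
  have hwc : w ∈ Subgroup.center (E × Multiplicative ℤ) := by
    rw [Subgroup.mem_center_iff]
    exact fun u => Prod.ext (hz z hzker u.1) (mul_comm _ _)
  let N := Subgroup.zpowers w
  have hNc : N ≤ Subgroup.center (E × Multiplicative ℤ) := by rwa [Subgroup.zpowers_le]
  have : N.Normal := ⟨fun u hu v => by
    rw [Subgroup.mem_center_iff.1 (hNc hu) v, mul_inv_cancel_right]; exact hu⟩
  let π : (E × Multiplicative ℤ) ⧸ N →* G := QuotientGroup.lift N (σ.comp (MonoidHom.fst _ _))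
    (by rw [Subgroup.zpowers_le]; exact hzker)
  let mk' := QuotientGroup.mk' N
  let ι : E →* (E × Multiplicative ℤ) ⧸ N := mk'.comp (MonoidHom.inl _ _)
  refine ⟨_, inferInstance, π, ι, ?_, ?_, ?_, ⟨⟨fun p => mk' (X p, Multiplicative.ofAdd (-1)),
    fun p => ?_, fun p => ?_, fun p q => ?_⟩⟩⟩
  · intro u hu
    obtain ⟨⟨e, c⟩, rfl⟩ := QuotientGroup.mk'_surjective N u
    rw [Subgroup.mem_center_iff]
    intro v
    obtain ⟨v, rfl⟩ := QuotientGroup.mk'_surjective N v
    rw [← map_mul, ← map_mul]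
    exact congrArg mk' (Prod.ext (hz e hu v.1) (mul_comm _ _))
  · refine (injective_iff_map_eq_one ι).2 fun e he => ?_
    obtain ⟨j, hj⟩ := Subgroup.mem_zpowers_iff.1 ((QuotientGroup.eq_one_iff _).1 he)
    have h2 := congrArg (fun u : E × Multiplicative ℤ => Multiplicative.toAdd u.2) hj
    simp only [w, Prod.pow_snd, toAdd_zpow, toAdd_ofAdd, MonoidHom.inl_apply, toAdd_one,
      smul_eq_mul, mul_eq_zero] at h2
    have h1 := congrArg Prod.fst hj
    simp only [w, Prod.pow_fst, MonoidHom.inl_apply] at h1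
    rw [← h1, show j = 0 by omega, zpow_zero]
  · ext e; rfl
  · exact hXσ p
  · rw [← map_mul]
    refine (QuotientGroup.eq_one_iff _).2 ?_
    have : (X p, Multiplicative.ofAdd (-1 : ℤ)) * (X p, Multiplicative.ofAdd (-1 : ℤ)) = w :=
      Prod.ext (hXsq p) rfl
    rw [this]
    exact Subgroup.mem_zpowers w
  · rw [← map_mul, ← map_mul]
    refine QuotientGroup.eq.2 ?_
    rw [← hXσ p, ← hXconj]
    have hX2 : X p = z * (X p)⁻¹ := eq_mul_inv_of_mul_eq (hXsq p)
    have : ((X p, Multiplicative.ofAdd (-1 : ℤ)) * (X q, Multiplicative.ofAdd (-1 : ℤ)) *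
        (X p, Multiplicative.ofAdd (-1 : ℤ)))⁻¹ *
        (X p * X q * (X p)⁻¹, Multiplicative.ofAdd (-1 : ℤ)) = w⁻¹ := by
      refine Prod.ext ?_ rfl
      show (X p * X q * X p)⁻¹ * (X p * X q * (X p)⁻¹) = z⁻¹
      nth_rewrite 2 [hX2]
      group
      rw [← hXsq p]
      group
    rw [this]
    exact inv_mem (Subgroup.mem_zpowers w)

theorem pts_zero : table.pts.getD 0 0 = 0 := shapes.2.2.2.2.1

/-- When the lifts of two commuting reflections commute, the kernel has order dividing three. -/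
theorem ker_dvd_three {E : Type} [Group E] {σ : E →* M} (hσ : Cfsg.IsStemExtension σ) (e0 e2 : E)
    (h0 : σ e0 = x 0) (h2 : σ e2 = x 2) (hcomm : e2 * e0 = e0 * e2) :
    Finite σ.ker ∧ Nat.card σ.ker ∣ 3 := by
  obtain ⟨hsurj, hker, hcom⟩ := hσ
  have hfix : ∀ a : E, table.f (σ a) table.p₀ = table.p₀ → a * e0 * a⁻¹ = e0 := by
    set C := Subgroup.centralizer ({e0} : Set E)
    have hkC : σ.ker ≤ C := fun k hk => Subgroup.mem_centralizer_singleton_iff.2
      (Subgroup.mem_center_iff.1 (hker hk) e0).symm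
    have hle : Subgroup.closure (wordVal x '' {u | u ∈ words1}) ≤ C.map σ := by
      rw [Subgroup.closure_le]
      rintro _ ⟨u, hu, rfl⟩
      obtain ⟨i, hi, rfl⟩ := List.getElem_of_mem hu
      have hi7 : i < 7 := lt_of_lt_of_eq hi shapes.2.2.2.2.2
      have h := List.all_eq_true.1 stab_conj i (List.mem_range.2 hi7)
      simp only [Bool.and_eq_true, List.all_eq_true, Nat.blt_eq, Nat.beq_eq, List.mem_range] at h
      obtain ⟨hlt, hr⟩ := h
      set v := witWords.getD i []
      have hu' : ∀ a ∈ words1[i], a < 8 := (stab_words _ (List.getElem_mem hi)).1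
      have e1 := eq_of_walk (u := v ++ [0]) (v := [0] ++ v)
        (by intro a ha; simp at ha; rcases ha with ha | rfl; exacts [hlt a ha, by decide])
        (by intro a ha; simp at ha; rcases ha with rfl | ha; exacts [by decide, hlt a ha])
        fun r h => (hr r h).1
      have e3 := eq_of_walk (u := v.reverse ++ [2] ++ v) (v := words1.getD i [])
        (by intro a ha; simp at ha; rcases ha with ha | rfl | ha; exacts [hlt a ha, by decide, hlt a ha])
        (by rw [List.getD_eq_getElem _ _ hi]; exact hu') fun r h => (hr r h).2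
      rw [wordVal_append, wordVal_append, x_single (by decide)] at e1
      rw [wordVal_append, wordVal_append, wordVal_reverse x_sq, x_single (by decide),
        List.getD_eq_getElem _ _ hi] at e3
      obtain ⟨a, ha⟩ := hsurj (wordVal x v)
      refine ⟨a * e2 * a⁻¹, ?_, by rw [map_mul, map_mul, map_inv, ha, h2, ← e3, mul_assoc]⟩
      have hc : (a * e0 * a⁻¹)⁻¹ * e0 ∈ σ.ker := by
        rw [MonoidHom.mem_ker, map_mul, map_inv, map_mul, map_mul, map_inv, ha, h0,
          show wordVal x v * x 0 * (wordVal x v)⁻¹ = x 0 by rw [← e1, mul_inv_cancel_right],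
          inv_mul_cancel]
      refine Subgroup.mem_centralizer_singleton_iff.2 ?_
      set c := (a * e0 * a⁻¹)⁻¹ * e0 with hcdef
      have he0 : e0 = a * e0 * a⁻¹ * c := by rw [hcdef, mul_inv_cancel_left]
      have hcc := Subgroup.mem_center_iff.1 (hker hc) (a * e2 * a⁻¹)
      calc a * e2 * a⁻¹ * e0 = a * e2 * a⁻¹ * (a * e0 * a⁻¹ * c) := by rw [← he0]
        _ = a * (e2 * e0) * a⁻¹ * c := by group
        _ = a * e0 * a⁻¹ * (a * e2 * a⁻¹ * c) := by rw [hcomm]; group
        _ = a * e0 * a⁻¹ * (c * (a * e2 * a⁻¹)) := by rw [hcc]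
        _ = e0 * (a * e2 * a⁻¹) := by rw [← mul_assoc, ← he0]
    intro a ha
    have hmem : σ a ∈ Subgroup.closure (wordVal x '' {u | u ∈ words1}) := by rw [stab_eq]; exact ha
    obtain ⟨c, hc, hca⟩ := hle hmem
    have hac : a ∈ C := by
      have : a = c * (c⁻¹ * a) := by group
      rw [this]
      exact mul_mem hc (hkC (by rw [MonoidHom.mem_ker, map_mul, map_inv, hca, inv_mul_cancel]))
    rw [Subgroup.mem_centralizer_singleton_iff.1 hac, mul_inv_cancel_right]
  obtain ⟨Q, _, π, ι, hπ, hι, hcomp, ⟨L⟩⟩ := lifts_of_fix table hsurj hker (x_sq 0) e0 h0 hfix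
  have hk0 : 0 < table.k := by show 0 < 8; decide
  have hws : words.all (fun w => w.all fun g => Nat.blt g table.k) = true := shapes.1
  have hmS : relSpider ∈ rels := by simp [rels]
  have hmR : relRight ∈ rels := by simp [rels]
  have hlt : ∀ r ∈ rels, ∀ g ∈ r, g < table.k := rels_lt
  have hproj : ∀ r ∈ rels, π (wordVal L.y r) = 1 := fun r hr =>
    (L.proj_word (hlt r hr)).trans (rels_hold r hr)
  set S := wordVal L.y relSpider with hS
  set F := wordVal L.y relRight with hF
  have hS3 : S ^ 3 = 1 := by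
    have h' := L.run_prod hk0 hws
      (q := seqOf table.pts relSpider ++ seqOf table.pts relSpider ++ seqOf table.pts relSpider) (r := [])
      (ops := progSpider)
      (fun i hi => by
        simp only [List.mem_append, or_self] at hi
        exact table.seqOf_lt (hlt _ hmS) i hi) (by rw [pts_zero]; exact spider_run)
    rw [L.prodSeq_append, L.prodSeq_append] at h'
    rw [hS, L.wordVal_y (hlt _ hmS), pow_succ, pow_two]
    exact h'.symm
  have hF2 : F * F = 1 := by
    have h' := L.run_prod hk0 hws (q := seqOf table.pts relRight ++ seqOf table.pts relRight) (r := [])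
      (ops := progRight)
      (fun i hi => by
        simp only [List.mem_append, or_self] at hi
        exact table.seqOf_lt (hlt _ hmR) i hi) (by rw [pts_zero]; exact right_run)
    rw [L.prodSeq_append] at h'
    rw [hF, L.wordVal_y (hlt _ hmR)]
    exact h'.symm
  have hev := L.evens hk0 hws (R := pairRels) (Ps := progPairs) pairs_run
  have hKπ : Subgroup.zpowers S ≤ π.ker := Subgroup.zpowers_le.2 (hproj _ hmS)
  have hsmall := table.ker_commutator_le hπ L hKπ (R := rels) (F := F)
    presented (hproj _ hmR) (by rw [hF2]; exact one_mem _) (by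
      intro r hr
      refine ⟨hlt r hr, ?_⟩
      simp only [rels, List.mem_append, List.mem_cons, List.not_mem_nil, or_false] at hr
      rcases hr with hr | rfl | rfl
      · obtain ⟨e, ⟨m, hm⟩, -⟩ := hev r hr
        rw [e, hm, ← two_mul, pow_mul, pow_two, hF2, one_pow, mul_one]
        exact one_mem _
      · rw [shapes.2.2.1, pow_mul, pow_two, hF2, one_pow, one_mul]
        exact Subgroup.mem_zpowers S
      · rw [shapes.2.2.2.1, pow_succ, pow_mul, pow_two, hF2, one_pow, one_mul, ← hF, hF2]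
        exact one_mem _)
  let φ : σ.ker →* Subgroup.zpowers S := (ι.comp σ.ker.subtype).codRestrict _ fun e => hsmall ⟨by
      show π (ι e.1) = 1
      rw [← MonoidHom.comp_apply, hcomp]
      exact e.2, by
      have : (commutator E).map ι ≤ commutator Q := by
        rw [commutator_def, Subgroup.map_commutator, commutator_def]
        exact Subgroup.commutator_mono le_top le_top
      exact this ⟨e.1, hcom e.2, rfl⟩⟩
  have hφ : Function.Injective φ := fun a b h => Subtype.ext (hι (congrArg Subtype.val h))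
  have hdvd : orderOf S ∣ 3 := orderOf_dvd_of_pow_eq_one hS3
  haveI : Finite (Subgroup.zpowers S) := Nat.finite_of_card_ne_zero (by
    rw [Nat.card_zpowers]
    exact fun h => by rw [h] at hdvd; simp at hdvd)
  exact ⟨Finite.of_injective φ hφ, (Subgroup.card_dvd_of_injective φ hφ).trans (by rwa [Nat.card_zpowers])⟩

/-- The kernel of a stem extension is finite of order dividing six. -/
theorem ker_dvd_six {E : Type} [Group E] {σ : E →* M} (hσ : Cfsg.IsStemExtension σ) :
    Nat.card σ.ker ∣ 6 := by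
  obtain ⟨hsurj, hker, hcom⟩ := hσ
  obtain ⟨e0, h0⟩ := hsurj (x 0)
  obtain ⟨e2, h2⟩ := hsurj (x 2)
  have hx02 : x 2 * x 0 = x 0 * x 2 := by
    have := eq_of_walk (u := [0, 2]) (v := [2, 0]) (by decide) (by decide) (by decide +kernel)
    simpa [wordVal, gen, eps] using this
  set ε := ⁅e2, e0⁆ with hε
  have hεk : ε ∈ σ.ker := by
    rw [MonoidHom.mem_ker, hε, map_commutatorElement, h0, h2, commutatorElement_eq_one_iff_commute]
    exact hx02
  have hεc : ∀ a, a * ε = ε * a := fun a => Subgroup.mem_center_iff.1 (hker hεk) a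
  have hε2 : ε * ε = 1 := by
    have hk : e2 * e2 ∈ σ.ker := by rw [MonoidHom.mem_ker, map_mul, h2, x_sq]
    have hc := Subgroup.mem_center_iff.1 (hker hk) e0
    calc ε * ε = ε * (e2 * e0 * e2⁻¹ * e0⁻¹) := by rw [hε, commutatorElement_def]
      _ = e2 * ε * e0 * e2⁻¹ * e0⁻¹ := by rw [hεc e2]; group
      _ = e2 * e2 * e0 * (e2 * e2)⁻¹ * e0⁻¹ := by rw [hε, commutatorElement_def]; group
      _ = 1 := by rw [← hc]; group
  set N := Subgroup.zpowers ε with hN
  have hNk : N ≤ σ.ker := Subgroup.zpowers_le.2 hεk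
  haveI : N.Normal := ⟨fun a ha b => by
    rw [Subgroup.mem_center_iff.1 (hker (hNk ha)) b, mul_inv_cancel_right]; exact ha⟩
  let q := QuotientGroup.mk' N
  let σ1 : E ⧸ N →* M := QuotientGroup.lift N σ hNk
  have hk1 : σ1.ker = σ.ker.map q := by
    ext a
    obtain ⟨a, rfl⟩ := QuotientGroup.mk'_surjective N a
    refine ⟨fun h => ⟨a, h, rfl⟩, ?_⟩
    rintro ⟨b, hb, hba⟩
    rw [MonoidHom.mem_ker, ← hba]
    exact hb
  have hst : Cfsg.IsStemExtension σ1 := by
    refine ⟨fun a => ?_, ?_, ?_⟩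
    · obtain ⟨e, he⟩ := hsurj a
      exact ⟨q e, he⟩
    · rw [hk1]
      rintro _ ⟨a, ha, rfl⟩
      refine Subgroup.mem_center_iff.2 fun b => ?_
      obtain ⟨b, rfl⟩ := QuotientGroup.mk'_surjective N b
      rw [← map_mul, Subgroup.mem_center_iff.1 (hker ha) b, map_mul]
    · rw [hk1, commutator_def, ← Subgroup.map_top_of_surjective q (QuotientGroup.mk'_surjective N),
        ← Subgroup.map_commutator, ← commutator_def]
      exact Subgroup.map_mono hcom
  have hqc : q e2 * q e0 = q e0 * q e2 := by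
    have : q ε = 1 := (QuotientGroup.eq_one_iff _).2 (Subgroup.mem_zpowers ε)
    rwa [hε, map_commutatorElement, commutatorElement_eq_one_iff_commute] at this
  obtain ⟨-, h3⟩ := ker_dvd_three hst (q e0) (q e2) h0 h2 hqc
  let φ : σ.ker →* σ1.ker := (q.comp σ.ker.subtype).codRestrict _ fun a => by
    rw [hk1]; exact ⟨a.1, a.2, rfl⟩
  have hφs : Function.Surjective φ := by
    rintro ⟨b, hb⟩
    rw [hk1] at hb
    obtain ⟨a, ha, rfl⟩ := hb
    exact ⟨⟨a, ha⟩, rfl⟩
  have hφk : φ.ker = N.subgroupOf σ.ker := by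
    ext a
    rw [MonoidHom.mem_ker, Subgroup.mem_subgroupOf]
    exact ⟨fun h => (QuotientGroup.eq_one_iff _).1 (congrArg Subtype.val h),
      fun h => Subtype.ext ((QuotientGroup.eq_one_iff _).2 h)⟩
  have h1 := φ.ker.card_mul_index
  rw [Subgroup.index_ker, MonoidHom.range_eq_top.2 hφs, Subgroup.card_top, hφk,
    Nat.card_congr (Subgroup.subgroupOfEquivOfLe hNk).toEquiv] at h1
  rw [← h1, show (6 : ℕ) = 2 * 3 from rfl]
  exact Nat.mul_dvd_mul (by
    show Nat.card (Subgroup.zpowers ε) ∣ 2
    rw [Nat.card_zpowers]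
    exact orderOf_dvd_of_pow_eq_one (by rw [pow_two, hε2])) h3

end Cfsg.Lib.OmegaSevenThree
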