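import Cfsg.Agent.Lib.OmegaSevenThree.Data
import Cfsg.Agent.Lib.CosetEnum.Trans.DefsRewrite
import Cfsg.Agent.Lib.CosetEnum.Fi22O73Pts.Data
import Cfsg.Agent.Lib.CosetEnum.Fi22Mult.MatValid

/-!
# Kernel checks for the central extensions of PΩ(7, 3) generated by reflections
-/

set_option autoImplicit false
set_option maxRecDepth 100000

namespace Cfsg.Lib.OmegaSevenThree

open Cfsg.Lib.CosetEnum
open Fi22O73Pts (tabP words1)

/-- All relators on the eight generators. -/
def rels : List (List Nat) := pairRels ++ [relSpider, relRight]

theorem perm_rels : permOK tabP 8 351 rels 351 0 = true := by decide +kernel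

theorem gens_moved : ((List.range 8).all fun g => ((words.getD g []).all fun a => Nat.blt a 8) &&
    Nat.blt (pts.getD g 0) 351 && Nat.beq (twalk tabP 8 (words.getD g []) 0) (pts.getD g 0) &&
    (List.range 351).all fun r => Nat.beq (twalk tabP 8 (conjWord (words.getD g [])) r) (img tabP 8 g r)) = true := by
  decide +kernel

theorem stab_commute : (words1.all fun u => (u.all fun a => Nat.blt a 8) && Nat.beq (twalk tabP 8 u 0) 0 &&
    (List.range 351).all fun r => Nat.beq (twalk tabP 8 (u ++ [0]) r) (twalk tabP 8 ([0] ++ u) r)) = true := by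
  decide +kernel

theorem stab_conj : ((List.range 7).all fun i => ((witWords.getD i []).all fun a => Nat.blt a 8) &&
    (List.range 351).all fun r =>
      Nat.beq (twalk tabP 8 (witWords.getD i [] ++ [0]) r) (twalk tabP 8 ([0] ++ witWords.getD i []) r) &&
      Nat.beq (twalk tabP 8 ((witWords.getD i []).reverse ++ [2] ++ witWords.getD i []) r)
        (twalk tabP 8 (words1.getD i []) r)) = true := by
  decide +kernel

theorem point_moved : ((List.range 351).all fun p => ((moveWords.getD p []).all fun a => Nat.blt a 8) &&
    Nat.beq (twalk tabP 8 (moveWords.getD p []) 0) p &&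
    (Nat.beq p 0 || (Nat.blt (moveWit.getD p 0) 351 &&
      !(Nat.beq (twalk tabP 8 (conjWord (moveWords.getD p [])) (moveWit.getD p 0))
        (img tabP 8 0 (moveWit.getD p 0)))))) = true := by
  decide +kernel

theorem pairs_run : evenProgsOK tabP 8 pts words pairRels progPairs = true := by decide +kernel

theorem spider_run : runSeq tabP 8 0 words progSpider
    (seqOf pts relSpider ++ seqOf pts relSpider ++ seqOf pts relSpider) [] = true := by decide +kernel

theorem right_run : runSeq tabP 8 0 words progRight (seqOf pts relRight ++ seqOf pts relRight) [] = true := by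
  decide +kernel

theorem mats_rels : pairRels.all (fun r => MatList.valOK 27 Fi22Mult.mats GF4.i (r.map (· + 1))) = true := by
  decide +kernel

theorem extra_eq : relSpider.map (· + 1) = Fi22Pres.extra.getD 0 [] ∧
    relRight.map (· + 1) = Fi22Pres.extra.getD 2 [] := by decide +kernel

theorem shapes : words.all (fun w => w.all fun g => Nat.blt g 8) = true ∧
    rels.all (fun r => r.all fun g => Nat.blt g 8) = true ∧ relSpider.length = 2 * 45 ∧
    relRight.length = 2 * 31 + 1 ∧ pts.getD 0 0 = 0 ∧ words1.length = 7 := by decide +kernel

end Cfsg.Lib.OmegaSevenThree
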