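import Cfsg.Agent.Lib.OmegaSevenThree.Pres
import Cfsg.Prelude.Def_KGroupFacts

/-!
# The triple cover of PΩ(7, 3) by matrices of degree 27, and fibre products of covers
-/

set_option autoImplicit false
set_option maxRecDepth 100000

namespace Cfsg.Lib.OmegaSevenThree

open Cfsg.Lib.CosetEnum Cfsg.Lib.CosetEnum.MatList

theorem exists_triple : ∃ (E : Type) (_ : Group E) (σ : E →* M),
    Cfsg.IsStemExtension σ ∧ commutator E = ⊤ ∧ Nat.card σ.ker = 3 := by
  classical
  have := finite_M
  set mats := Fi22Mult.mats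
  have hlenM : mats.length = 9 := Fi22Mult.mats_shape.1
  have hM : ∀ g < mats.length, shapeOK 27 (mats.getD g []) = true := fun g hg => by
    rw [List.getD_eq_getElem _ _ hg]
    exact List.all_eq_true.1 Fi22Mult.mats_shape.2 _ (List.getElem_mem hg)
  have hMsq : ∀ g < mats.length, toMat 27 (mats.getD g []) * toMat 27 (mats.getD g []) = 1 :=
    fun g hg => mul_self_of_sqOK (hM g hg) (by
      rw [List.getD_eq_getElem _ _ hg]
      exact List.all_eq_true.1 Fi22Mult.mats_sq _ (List.getElem_mem hg))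
  let u : ℕ → (Matrix (Fin 27) (Fin 27) GF4)ˣ := fun g =>
    if h : g < mats.length then ⟨toMat 27 (mats.getD g []), toMat 27 (mats.getD g []), hMsq g h, hMsq g h⟩
    else 1
  have hu : ∀ g < mats.length, (u g : Matrix (Fin 27) (Fin 27) GF4) = toMat 27 (mats.getD g []) :=
    fun g hg => by simp only [u, dif_pos hg]
  have hval : ∀ {c : GF4} {r : List ℕ}, valOK 27 mats c r = true →
      ((wordVal u r : (Matrix (Fin 27) (Fin 27) GF4)ˣ) : Matrix (Fin 27) (Fin 27) GF4) =
        c • (1 : Matrix (Fin 27) (Fin 27) GF4) := fun h =>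
    wordVal_of_valOK hM hu (by rw [hlenM]; decide) h
  have hone : ∀ {r : List ℕ}, valOK 27 mats GF4.i r = true → wordVal u r = 1 := fun h =>
    Units.ext (by rw [hval h, show (GF4.i : GF4) = 1 from rfl, one_smul, Units.val_one])
  set Λ := wordVal u (relSpider.map (· + 1))
  have hΛ : (Λ : Matrix (Fin 27) (Fin 27) GF4) = Fi22Mult.lam • (1 : Matrix (Fin 27) (Fin 27) GF4) :=
    hval (by rw [extra_eq.1]; exact Fi22Mult.mats_spider)
  have hΛ3 : Λ ^ 3 = 1 := by
    refine Units.ext ?_
    rw [Units.val_pow_eq_pow_val, hΛ, smul_pow, one_pow, Units.val_one,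
      show Fi22Mult.lam ^ 3 = 1 by decide +kernel, one_smul]
  have hΛ1 : Λ ≠ 1 := by
    intro h
    have h1 : (Λ : Matrix (Fin 27) (Fin 27) GF4) = 1 := by rw [h, Units.val_one]
    rw [hΛ] at h1
    have h' := congrArg (fun A : Matrix (Fin 27) (Fin 27) GF4 => A 0 0) h1
    simp only [Matrix.smul_apply, Matrix.one_apply_eq, smul_eq_mul, mul_one] at h'
    exact absurd h' (by decide +kernel)
  let Y : ℕ → M × (Matrix (Fin 27) (Fin 27) GF4)ˣ := fun g => if g < 8 then (x g, u (g + 1)) else 1
  have husq : ∀ g, g < 8 → u (g + 1) * u (g + 1) = 1 := fun g hg => Units.ext (by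
    rw [Units.val_mul, hu _ (by omega), hMsq _ (by omega), Units.val_one])
  have hYsq : ∀ g, Y g * Y g = 1 := by
    intro g
    simp only [Y]
    split
    · next hg => exact Prod.ext (x_sq _) (husq g hg)
    · exact one_mul 1
  have hY : ∀ {w : List ℕ}, (∀ g ∈ w, g < 8) →
      wordVal Y w = (wordVal x w, wordVal u (w.map (· + 1))) := by
    intro w
    induction w with
    | nil => intro _; rfl
    | cons g w ih =>
      intro hw
      have hg := hw g (by simp)
      rw [List.map_cons, wordVal, wordVal, wordVal, ih fun a ha => hw a (by simp [ha]), gen, gen, gen,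
        if_neg (show g ≠ eps by simp only [eps]; omega), if_neg (show g ≠ eps by simp only [eps]; omega),
        if_neg (show g + 1 ≠ eps by simp only [eps]; omega)]
      simp only [Y, if_pos hg]
      rfl
  set c : M × (Matrix (Fin 27) (Fin 27) GF4)ˣ := (1, Λ) with hc
  set H := Subgroup.closure (Y '' {g | g < 8}) with hH
  have hYH : ∀ g, Y g ∈ H := fun g => by
    by_cases hg : g < 8
    · exact Subgroup.subset_closure ⟨g, hg, rfl⟩
    · simp only [Y, if_neg hg]; exact one_mem H
  let y : ℕ → H := fun g => ⟨Y g, hYH g⟩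
  have hy : ∀ w, ((wordVal y w : H) : M × (Matrix (Fin 27) (Fin 27) GF4)ˣ) = wordVal Y w :=
    fun w => map_wordVal H.subtype y w
  have hpair : ∀ r ∈ pairRels, wordVal Y r = 1 := fun r hr => by
    rw [hY (rels_lt r (List.mem_append_left _ hr)), rels_hold r (List.mem_append_left _ hr),
      hone (List.all_eq_true.1 mats_rels r hr)]
    rfl
  have hright : wordVal Y relRight = 1 := by
    rw [hY (rels_lt _ (by simp [rels])), rels_hold _ (by simp [rels]),
      hone (by rw [extra_eq.2]; exact Fi22Mult.mats_right)]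
    rfl
  have hspider : wordVal Y relSpider = c := by
    rw [hY (rels_lt _ (by simp [rels])), rels_hold _ (by simp [rels])]
  have hcH : c ∈ H := by rw [← hspider, ← hy]; exact (wordVal y relSpider).2
  let c' : H := ⟨c, hcH⟩
  have hcc : ∀ a : H, a * c' = c' * a := by
    intro a
    refine Subtype.ext (Prod.ext ?_ (Units.ext ?_))
    · show a.1.1 * 1 = 1 * a.1.1
      rw [mul_one, one_mul]
    · show ((a.1.2 : Matrix (Fin 27) (Fin 27) GF4)) * Λ = Λ * (a.1.2 : Matrix (Fin 27) (Fin 27) GF4)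
      rw [hΛ, mul_smul_comm, smul_mul_assoc, mul_one, one_mul]
  set Z := Subgroup.zpowers c'
  have hZc : Z ≤ Subgroup.center H := Subgroup.zpowers_le.2 (Subgroup.mem_center_iff.2 hcc)
  have : Z.Normal := ⟨fun a ha b => by
    rw [Subgroup.mem_center_iff.1 (hZc ha) b, mul_inv_cancel_right]; exact ha⟩
  let q := QuotientGroup.mk' Z
  let σ : H →* M := (MonoidHom.fst _ _).comp H.subtype
  obtain ⟨s, hs⟩ := presented (H ⧸ Z) (fun g => q (y g))
    (fun g => by rw [← map_mul, show y g * y g = 1 from Subtype.ext (hYsq g), map_one]) (by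
      intro r hr
      rw [← map_wordVal q y r]
      refine (QuotientGroup.eq_one_iff _).2 ?_
      simp only [rels, List.mem_append, List.mem_cons, List.not_mem_nil, or_false] at hr
      rcases hr with hr | rfl | rfl
      · rw [show wordVal y r = 1 from Subtype.ext ((hy r).trans (hpair r hr))]
        exact one_mem Z
      · rw [show wordVal y relSpider = c' from Subtype.ext ((hy _).trans hspider)]
        exact Subgroup.mem_zpowers c'
      · rw [show wordVal y relRight = 1 from Subtype.ext ((hy _).trans hright)]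
        exact one_mem Z)
  have hgenH : Subgroup.closure (y '' {g | g < 8}) = ⊤ := by
    apply Subgroup.map_injective H.subtype_injective
    rw [MonoidHom.map_closure, ← MonoidHom.range_eq_map, Subgroup.range_subtype, ← Set.image_comp]
    rfl
  have hσy : ∀ g < 8, σ (y g) = x g := fun g hg => by
    show (Y g).1 = x g
    simp only [Y, if_pos hg]
  have hsq : s.comp σ = q := by
    refine MonoidHom.eq_of_eqOn_dense hgenH ?_
    rintro _ ⟨g, hg, rfl⟩
    show s (σ (y g)) = q (y g)
    rw [hσy g hg, hs g hg]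
  have hker : σ.ker = Z := by
    refine le_antisymm (fun a ha => (QuotientGroup.eq_one_iff _).1 ?_) (Subgroup.zpowers_le.2 rfl)
    show q a = 1
    rw [← hsq, MonoidHom.comp_apply, ha, map_one]
  have hsurj : Function.Surjective σ := by
    rw [← MonoidHom.range_eq_top, eq_top_iff, ← gen_x, Subgroup.closure_le]
    rintro _ ⟨g, hg, rfl⟩
    exact ⟨y g, hσy g hg⟩
  have hperf : commutator H = ⊤ := by
    refine Cfsg.Agent.S1686.commutator_eq_top y hgenH (fun g => Subtype.ext (hYsq g)) ?_ (r := relRight)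
      (rels_lt _ (by simp [rels])) ⟨31, shapes.2.2.2.1⟩ (Subtype.ext ((hy _).trans hright))
    intro p hp
    have h : p.1 < 8 ∧ p.2 < 8 ∧ (List.replicate 3 [p.1, p.2]).flatten ∈ pairRels := by
      revert p
      decide +kernel
    have h1 : wordVal y (List.replicate 3 [p.1, p.2]).flatten = 1 :=
      Subtype.ext ((hy _).trans (hpair _ h.2.2))
    rw [wordVal_replicate y _ _ (by simp only [eps]; omega) (by simp only [eps]; omega)] at h1
    have hi : ∀ g, (y g)⁻¹ = y g := fun g => inv_eq_of_mul_eq_one_left (Subtype.ext (hYsq g))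
    rw [← inv_inj, ← inv_pow, mul_inv_rev, hi, hi, inv_one]
    exact h1
  refine ⟨H, inferInstance, σ, ⟨hsurj, hker.le.trans hZc, hperf ▸ le_top⟩, hperf, ?_⟩
  rw [hker, Nat.card_zpowers]
  haveI : Fact (Nat.Prime 3) := ⟨Nat.prime_three⟩
  refine orderOf_eq_prime (Subtype.ext (Prod.ext ?_ hΛ3)) fun h => hΛ1 (congrArg (fun a : H => a.1.2) h)
  show (1 : M) ^ 3 = 1
  exact one_pow 3

/-- The fibre product of perfect covers with kernels of coprime orders is a perfect cover. -/
theorem fibre_cover {G E₁ E₂ : Type} [Group G] [Group E₁] [Group E₂] {σ₁ : E₁ →* G} {σ₂ : E₂ →* G}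
    (h₁ : Cfsg.IsStemExtension σ₁) (h₂ : Cfsg.IsStemExtension σ₂) (p₁ : commutator E₁ = ⊤)
    (p₂ : commutator E₂ = ⊤) (hc : Nat.Coprime (Nat.card σ₁.ker) (Nat.card σ₂.ker)) :
    ∃ (D : Type) (_ : Group D) (σ : D →* G),
      Cfsg.IsStemExtension σ ∧ Nat.card σ.ker = Nat.card σ₁.ker * Nat.card σ₂.ker := by
  let D : Subgroup (E₁ × E₂) := (σ₁.comp (MonoidHom.fst _ _)).eqLocus (σ₂.comp (MonoidHom.snd _ _))
  let σ : D →* G := (σ₁.comp (MonoidHom.fst _ _)).comp D.subtype
  let π₁ : D →* E₁ := (MonoidHom.fst _ _).comp D.subtype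
  let π₂ : D →* E₂ := (MonoidHom.snd _ _).comp D.subtype
  have hs1 : Function.Surjective π₁ := fun a => by
    obtain ⟨b, hb⟩ := h₂.1 (σ₁ a)
    exact ⟨⟨(a, b), hb.symm⟩, rfl⟩
  have hs2 : Function.Surjective π₂ := fun b => by
    obtain ⟨a, ha⟩ := h₁.1 (σ₂ b)
    exact ⟨⟨(a, b), ha⟩, rfl⟩
  let e : σ.ker ≃ σ₁.ker × σ₂.ker :=
    { toFun := fun d => (⟨d.1.1.1, d.2⟩, ⟨d.1.1.2, (d.1.2).symm.trans d.2⟩)
      invFun := fun k => ⟨⟨(k.1.1, k.2.1), (k.1.2 : σ₁ k.1.1 = 1).trans (k.2.2 : σ₂ k.2.1 = 1).symm⟩, k.1.2⟩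
      left_inv := fun d => rfl
      right_inv := fun k => rfl }
  refine ⟨D, inferInstance, σ, ⟨h₁.1.comp hs1, fun d hd => ?_, ?_⟩, by rw [Nat.card_congr e, Nat.card_prod]⟩
  · refine Subgroup.mem_center_iff.2 fun b => Subtype.ext (Prod.ext ?_ ?_)
    · exact Subgroup.mem_center_iff.1 (h₁.2.1 hd) _
    · exact Subgroup.mem_center_iff.1 (h₂.2.1 (show σ₂ d.1.2 = 1 from d.2.symm.trans hd)) _
  intro d hd
  have hm1 : (commutator D).map π₁ = ⊤ := by
    rw [commutator_def, Subgroup.map_commutator, Subgroup.map_top_of_surjective _ hs1, ← commutator_def, p₁]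
  have hm2 : (commutator D).map π₂ = ⊤ := by
    rw [commutator_def, Subgroup.map_commutator, Subgroup.map_top_of_surjective _ hs2, ← commutator_def, p₂]
  set a := Abelianization.of d
  have ha1 : a ^ Nat.card σ₁.ker = 1 := by
    obtain ⟨c, hc, hce⟩ := (show d.1.2 ∈ (commutator D).map π₂ by rw [hm2]; trivial)
    set k := c⁻¹ * d with hk
    have hk2 : k.1.2 = 1 := by
      show (π₂ (c⁻¹ * d)) = 1
      rw [map_mul, map_inv, hce]
      exact inv_mul_cancel _
    have hk1 : k.1.1 ∈ σ₁.ker := by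
      show σ₁ k.1.1 = 1
      rw [show σ₁ k.1.1 = σ₂ k.1.2 from k.2, hk2, map_one]
    have hpow : k ^ Nat.card σ₁.ker = 1 := by
      refine Subtype.ext (Prod.ext ?_ ?_)
      · show k.1.1 ^ _ = 1
        exact congrArg Subtype.val (pow_card_eq_one' (x := (⟨_, hk1⟩ : σ₁.ker)))
      · show k.1.2 ^ _ = 1
        rw [hk2, one_pow]
    have : a = Abelianization.of k := by
      rw [hk, map_mul, map_inv, show Abelianization.of c = 1 by
        rw [← MonoidHom.mem_ker, Abelianization.ker_of]; exact hc, inv_one, one_mul]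
    rw [this, ← map_pow, hpow, map_one]
  have ha2 : a ^ Nat.card σ₂.ker = 1 := by
    obtain ⟨c, hc, hce⟩ := (show d.1.1 ∈ (commutator D).map π₁ by rw [hm1]; trivial)
    set k := c⁻¹ * d with hk
    have hk1 : k.1.1 = 1 := by
      show (π₁ (c⁻¹ * d)) = 1
      rw [map_mul, map_inv, hce]
      exact inv_mul_cancel _
    have hk2 : k.1.2 ∈ σ₂.ker := by
      show σ₂ k.1.2 = 1
      rw [← show σ₁ k.1.1 = σ₂ k.1.2 from k.2, hk1, map_one]
    have hpow : k ^ Nat.card σ₂.ker = 1 := by
      refine Subtype.ext (Prod.ext ?_ ?_)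
      · show k.1.1 ^ _ = 1
        rw [hk1, one_pow]
      · show k.1.2 ^ _ = 1
        exact congrArg Subtype.val (pow_card_eq_one' (x := (⟨_, hk2⟩ : σ₂.ker)))
    have : a = Abelianization.of k := by
      rw [hk, map_mul, map_inv, show Abelianization.of c = 1 by
        rw [← MonoidHom.mem_ker, Abelianization.ker_of]; exact hc, inv_one, one_mul]
    rw [this, ← map_pow, hpow, map_one]
  have h := pow_gcd_eq_one.2 ⟨ha1, ha2⟩
  rw [hc.gcd_eq_one, pow_one] at h
  rwa [← Abelianization.ker_of, MonoidHom.mem_ker]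

end Cfsg.Lib.OmegaSevenThree
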