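import Cfsg.Agent.Lib.CosetEnum.Defs

/-!
# Data for the central extensions of PΩ(7, 3) generated by reflections
-/

set_option autoImplicit false
set_option maxRecDepth 100000

namespace Cfsg.Lib.OmegaSevenThree

/-- Words leading from the first point to the points of the generators. -/
def words : List (List Nat) :=
  [[], [1, 0], [1, 0, 2, 1], [1, 0, 2, 1, 3, 2], [1, 0, 2, 1, 3, 2, 4, 3], [1, 0, 2, 1, 3, 2, 4,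
    3, 5, 4], [1, 0, 2, 1, 6, 2], [1, 0, 2, 1, 6, 2, 7, 6]]

/-- The points of the generators. -/
def pts : List Nat :=
  [0, 2, 7, 22, 52, 86, 25, 56]

/-- Words conjugating the third generator to the generators of the stabiliser. -/
def witWords : List (List Nat) :=
  [[3, 4, 5, 2, 3, 4], [3, 4, 5, 6, 2, 3, 1, 2, 6, 4, 3, 2, 1, 0, 1, 2, 3, 4, 6, 2, 1, 3, 2, 6, 2,
    3, 4, 5], [3, 4, 5, 6, 2, 3, 1, 2, 6, 4, 3, 2, 1, 0, 1, 2, 3, 4, 6, 2, 1, 3, 2, 6, 7, 2, 3,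
    4, 5, 6, 2, 3, 1, 2, 6, 4, 3, 2, 1, 0, 1, 2, 3, 4, 6, 2, 1, 3, 2, 6], [3, 4, 2, 3], [3, 3,
    2, 6, 7, 1, 2, 6, 3, 2, 1, 0, 1, 2, 3, 6, 2, 1, 7, 6, 2, 3, 2, 3], [3, 2], []]

/-- Words leading from the first point to each point. -/
def moveWords : List (List Nat) :=
  [[], [1], [1, 0], [1, 2], [1, 0, 2], [1, 2, 3], [1, 2, 6], [1, 0, 2, 1], [1, 0, 2, 3], [1, 0, 2,
    6], [1, 2, 3, 4], [1, 2, 3, 6], [1, 2, 6, 7], [1, 0, 2, 1, 3], [1, 0, 2, 1, 6], [1, 0, 2, 3,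
    4], [1, 0, 2, 3, 6], [1, 0, 2, 6, 7], [1, 2, 3, 4, 5], [1, 2, 3, 4, 6], [1, 2, 3, 6, 2], [1,
    2, 3, 6, 7], [1, 0, 2, 1, 3, 2], [1, 0, 2, 1, 3, 4], [1, 0, 2, 1, 3, 6], [1, 0, 2, 1, 6, 2],
    [1, 0, 2, 1, 6, 7], [1, 0, 2, 3, 4, 5], [1, 0, 2, 3, 4, 6], [1, 0, 2, 3, 6, 2], [1, 0, 2, 3,
    6, 7], [1, 2, 3, 4, 5, 6], [1, 2, 3, 4, 6, 2], [1, 2, 3, 4, 6, 7], [1, 2, 3, 6, 2, 1], [1,
    2, 3, 6, 2, 7], [1, 0, 2, 1, 3, 2, 4], [1, 0, 2, 1, 3, 4, 5], [1, 0, 2, 1, 3, 4, 6], [1, 0,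
    2, 1, 3, 6, 7], [1, 0, 2, 1, 6, 2, 7], [1, 0, 2, 3, 4, 5, 6], [1, 0, 2, 3, 4, 6, 2], [1, 0,
    2, 3, 4, 6, 7], [1, 0, 2, 3, 6, 2, 7], [1, 2, 3, 4, 5, 6, 2], [1, 2, 3, 4, 5, 6, 7], [1, 2,
    3, 4, 6, 2, 1], [1, 2, 3, 4, 6, 2, 3], [1, 2, 3, 4, 6, 2, 7], [1, 2, 3, 6, 2, 1, 7], [1, 2,
    3, 6, 2, 7, 6], [1, 0, 2, 1, 3, 2, 4, 3], [1, 0, 2, 1, 3, 2, 4, 5], [1, 0, 2, 1, 3, 4, 5,
    6], [1, 0, 2, 1, 3, 4, 6, 7], [1, 0, 2, 1, 6, 2, 7, 6], [1, 0, 2, 3, 4, 5, 6, 2], [1, 0, 2,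
    3, 4, 5, 6, 7], [1, 0, 2, 3, 4, 6, 2, 3], [1, 0, 2, 3, 4, 6, 2, 7], [1, 0, 2, 3, 6, 2, 7,
    6], [1, 2, 3, 4, 5, 6, 2, 1], [1, 2, 3, 4, 5, 6, 2, 3], [1, 2, 3, 4, 5, 6, 2, 7], [1, 2, 3,
    4, 6, 2, 1, 3], [1, 2, 3, 4, 6, 2, 1, 7], [1, 2, 3, 4, 6, 2, 3, 7], [1, 2, 3, 4, 6, 2, 7,
    6], [1, 2, 3, 6, 2, 1, 7, 6], [1, 0, 2, 1, 3, 2, 4, 3, 5], [1, 0, 2, 1, 3, 4, 5, 6, 7], [1,
    0, 2, 3, 4, 5, 6, 2, 3], [1, 0, 2, 3, 4, 5, 6, 2, 7], [1, 0, 2, 3, 4, 6, 2, 3, 7], [1, 0, 2,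
    3, 4, 6, 2, 7, 6], [1, 2, 3, 4, 5, 6, 2, 1, 3], [1, 2, 3, 4, 5, 6, 2, 1, 7], [1, 2, 3, 4, 5,
    6, 2, 3, 4], [1, 2, 3, 4, 5, 6, 2, 3, 7], [1, 2, 3, 4, 5, 6, 2, 7, 6], [1, 2, 3, 4, 6, 2, 1,
    3, 2], [1, 2, 3, 4, 6, 2, 1, 3, 7], [1, 2, 3, 4, 6, 2, 1, 7, 6], [1, 2, 3, 4, 6, 2, 3, 7,
    6], [1, 2, 3, 6, 2, 1, 7, 6, 2], [1, 0, 2, 1, 3, 2, 4, 3, 5, 4], [1, 0, 2, 3, 4, 5, 6, 2, 3,
    4], [1, 0, 2, 3, 4, 5, 6, 2, 3, 7], [1, 0, 2, 3, 4, 5, 6, 2, 7, 6], [1, 0, 2, 3, 4, 6, 2, 3,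
    7, 6], [1, 2, 3, 4, 5, 6, 2, 1, 3, 2], [1, 2, 3, 4, 5, 6, 2, 1, 3, 4], [1, 2, 3, 4, 5, 6, 2,
    1, 3, 7], [1, 2, 3, 4, 5, 6, 2, 1, 7, 6], [1, 2, 3, 4, 5, 6, 2, 3, 4, 7], [1, 2, 3, 4, 5, 6,
    2, 3, 7, 6], [1, 2, 3, 4, 6, 2, 1, 3, 2, 6], [1, 2, 3, 4, 6, 2, 1, 3, 2, 7], [1, 2, 3, 4, 6,
    2, 1, 3, 7, 6], [1, 2, 3, 4, 6, 2, 1, 7, 6, 2], [1, 2, 3, 4, 6, 2, 3, 7, 6, 2], [1, 2, 3, 6,
    2, 1, 7, 6, 2, 3], [1, 0, 2, 3, 4, 5, 6, 2, 3, 4, 7], [1, 0, 2, 3, 4, 5, 6, 2, 3, 7, 6], [1,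
    0, 2, 3, 4, 6, 2, 3, 7, 6, 2], [1, 2, 3, 4, 5, 6, 2, 1, 3, 2, 4], [1, 2, 3, 4, 5, 6, 2, 1,
    3, 2, 6], [1, 2, 3, 4, 5, 6, 2, 1, 3, 2, 7], [1, 2, 3, 4, 5, 6, 2, 1, 3, 4, 7], [1, 2, 3, 4,
    5, 6, 2, 1, 3, 7, 6], [1, 2, 3, 4, 5, 6, 2, 1, 7, 6, 2], [1, 2, 3, 4, 5, 6, 2, 3, 4, 7, 6],
    [1, 2, 3, 4, 5, 6, 2, 3, 7, 6, 2], [1, 2, 3, 4, 6, 2, 1, 3, 2, 6, 7], [1, 2, 3, 4, 6, 2, 1,
    3, 2, 7, 6], [1, 2, 3, 4, 6, 2, 1, 3, 7, 6, 2], [1, 2, 3, 4, 6, 2, 1, 7, 6, 2, 3], [1, 2, 3,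
    4, 6, 2, 3, 7, 6, 2, 1], [1, 2, 3, 6, 2, 1, 7, 6, 2, 3, 4], [1, 0, 2, 3, 4, 5, 6, 2, 3, 4,
    7, 6], [1, 0, 2, 3, 4, 5, 6, 2, 3, 7, 6, 2], [1, 0, 2, 3, 4, 6, 2, 3, 7, 6, 2, 1], [1, 2, 3,
    4, 5, 6, 2, 1, 3, 2, 4, 3], [1, 2, 3, 4, 5, 6, 2, 1, 3, 2, 4, 6], [1, 2, 3, 4, 5, 6, 2, 1,
    3, 2, 4, 7], [1, 2, 3, 4, 5, 6, 2, 1, 3, 2, 6, 7], [1, 2, 3, 4, 5, 6, 2, 1, 3, 2, 7, 6], [1,
    2, 3, 4, 5, 6, 2, 1, 3, 4, 7, 6], [1, 2, 3, 4, 5, 6, 2, 1, 3, 7, 6, 2], [1, 2, 3, 4, 5, 6,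
    2, 1, 7, 6, 2, 3], [1, 2, 3, 4, 5, 6, 2, 3, 4, 7, 6, 2], [1, 2, 3, 4, 5, 6, 2, 3, 7, 6, 2,
    1], [1, 2, 3, 4, 6, 2, 1, 3, 2, 6, 7, 6], [1, 2, 3, 4, 6, 2, 1, 3, 2, 7, 6, 2], [1, 2, 3, 4,
    6, 2, 1, 3, 7, 6, 2, 1], [1, 2, 3, 4, 6, 2, 1, 3, 7, 6, 2, 3], [1, 2, 3, 4, 6, 2, 1, 7, 6,
    2, 3, 4], [1, 2, 3, 4, 6, 2, 3, 7, 6, 2, 1, 0], [1, 2, 3, 6, 2, 1, 7, 6, 2, 3, 4, 5], [1, 0,
    2, 3, 4, 5, 6, 2, 3, 4, 7, 6, 2], [1, 0, 2, 3, 4, 5, 6, 2, 3, 7, 6, 2, 1], [1, 0, 2, 3, 4,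
    6, 2, 3, 7, 6, 2, 1, 0], [1, 2, 3, 4, 5, 6, 2, 1, 3, 2, 4, 3, 6], [1, 2, 3, 4, 5, 6, 2, 1,
    3, 2, 4, 3, 7], [1, 2, 3, 4, 5, 6, 2, 1, 3, 2, 4, 6, 7], [1, 2, 3, 4, 5, 6, 2, 1, 3, 2, 4,
    7, 6], [1, 2, 3, 4, 5, 6, 2, 1, 3, 2, 6, 7, 6], [1, 2, 3, 4, 5, 6, 2, 1, 3, 2, 7, 6, 2], [1,
    2, 3, 4, 5, 6, 2, 1, 3, 4, 7, 6, 2], [1, 2, 3, 4, 5, 6, 2, 1, 3, 7, 6, 2, 1], [1, 2, 3, 4,
    5, 6, 2, 1, 3, 7, 6, 2, 3], [1, 2, 3, 4, 5, 6, 2, 1, 7, 6, 2, 3, 4], [1, 2, 3, 4, 5, 6, 2,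
    3, 4, 7, 6, 2, 1], [1, 2, 3, 4, 5, 6, 2, 3, 4, 7, 6, 2, 3], [1, 2, 3, 4, 5, 6, 2, 3, 7, 6,
    2, 1, 0], [1, 2, 3, 4, 6, 2, 1, 3, 2, 6, 7, 6, 2], [1, 2, 3, 4, 6, 2, 1, 3, 2, 7, 6, 2, 1],
    [1, 2, 3, 4, 6, 2, 1, 3, 2, 7, 6, 2, 3], [1, 2, 3, 4, 6, 2, 1, 3, 7, 6, 2, 1, 0], [1, 2, 3,
    4, 6, 2, 1, 3, 7, 6, 2, 1, 3], [1, 2, 3, 4, 6, 2, 1, 3, 7, 6, 2, 3, 4], [1, 2, 3, 4, 6, 2,
    1, 7, 6, 2, 3, 4, 5], [1, 0, 2, 3, 4, 5, 6, 2, 3, 4, 7, 6, 2, 1], [1, 0, 2, 3, 4, 5, 6, 2,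
    3, 4, 7, 6, 2, 3], [1, 0, 2, 3, 4, 5, 6, 2, 3, 7, 6, 2, 1, 0], [1, 2, 3, 4, 5, 6, 2, 1, 3,
    2, 4, 3, 6, 2], [1, 2, 3, 4, 5, 6, 2, 1, 3, 2, 4, 3, 6, 7], [1, 2, 3, 4, 5, 6, 2, 1, 3, 2,
    4, 3, 7, 6], [1, 2, 3, 4, 5, 6, 2, 1, 3, 2, 4, 6, 7, 6], [1, 2, 3, 4, 5, 6, 2, 1, 3, 2, 4,
    7, 6, 2], [1, 2, 3, 4, 5, 6, 2, 1, 3, 2, 6, 7, 6, 2], [1, 2, 3, 4, 5, 6, 2, 1, 3, 2, 7, 6,
    2, 1], [1, 2, 3, 4, 5, 6, 2, 1, 3, 2, 7, 6, 2, 3], [1, 2, 3, 4, 5, 6, 2, 1, 3, 4, 7, 6, 2,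
    1], [1, 2, 3, 4, 5, 6, 2, 1, 3, 4, 7, 6, 2, 3], [1, 2, 3, 4, 5, 6, 2, 1, 3, 7, 6, 2, 1, 0],
    [1, 2, 3, 4, 5, 6, 2, 1, 3, 7, 6, 2, 1, 3], [1, 2, 3, 4, 5, 6, 2, 1, 3, 7, 6, 2, 3, 4], [1,
    2, 3, 4, 5, 6, 2, 1, 7, 6, 2, 3, 4, 5], [1, 2, 3, 4, 5, 6, 2, 3, 4, 7, 6, 2, 1, 0], [1, 2,
    3, 4, 5, 6, 2, 3, 4, 7, 6, 2, 1, 3], [1, 2, 3, 4, 6, 2, 1, 3, 2, 6, 7, 6, 2, 1], [1, 2, 3,
    4, 6, 2, 1, 3, 2, 6, 7, 6, 2, 3], [1, 2, 3, 4, 6, 2, 1, 3, 2, 7, 6, 2, 1, 0], [1, 2, 3, 4,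
    6, 2, 1, 3, 2, 7, 6, 2, 1, 3], [1, 2, 3, 4, 6, 2, 1, 3, 2, 7, 6, 2, 3, 4], [1, 2, 3, 4, 6,
    2, 1, 3, 7, 6, 2, 1, 0, 3], [1, 2, 3, 4, 6, 2, 1, 3, 7, 6, 2, 1, 3, 4], [1, 2, 3, 4, 6, 2,
    1, 3, 7, 6, 2, 3, 4, 5], [1, 0, 2, 3, 4, 5, 6, 2, 3, 4, 7, 6, 2, 1, 0], [1, 0, 2, 3, 4, 5,
    6, 2, 3, 4, 7, 6, 2, 1, 3], [1, 2, 3, 4, 5, 6, 2, 1, 3, 2, 4, 3, 6, 2, 1], [1, 2, 3, 4, 5,
    6, 2, 1, 3, 2, 4, 3, 6, 2, 7], [1, 2, 3, 4, 5, 6, 2, 1, 3, 2, 4, 3, 6, 7, 6], [1, 2, 3, 4,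
    5, 6, 2, 1, 3, 2, 4, 3, 7, 6, 2], [1, 2, 3, 4, 5, 6, 2, 1, 3, 2, 4, 6, 7, 6, 2], [1, 2, 3,
    4, 5, 6, 2, 1, 3, 2, 4, 7, 6, 2, 1], [1, 2, 3, 4, 5, 6, 2, 1, 3, 2, 4, 7, 6, 2, 3], [1, 2,
    3, 4, 5, 6, 2, 1, 3, 2, 6, 7, 6, 2, 1], [1, 2, 3, 4, 5, 6, 2, 1, 3, 2, 6, 7, 6, 2, 3], [1,
    2, 3, 4, 5, 6, 2, 1, 3, 2, 7, 6, 2, 1, 0], [1, 2, 3, 4, 5, 6, 2, 1, 3, 2, 7, 6, 2, 1, 3],
    [1, 2, 3, 4, 5, 6, 2, 1, 3, 2, 7, 6, 2, 3, 4], [1, 2, 3, 4, 5, 6, 2, 1, 3, 4, 7, 6, 2, 1,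
    0], [1, 2, 3, 4, 5, 6, 2, 1, 3, 4, 7, 6, 2, 1, 3], [1, 2, 3, 4, 5, 6, 2, 1, 3, 4, 7, 6, 2,
    3, 4], [1, 2, 3, 4, 5, 6, 2, 1, 3, 7, 6, 2, 1, 0, 3], [1, 2, 3, 4, 5, 6, 2, 1, 3, 7, 6, 2,
    1, 3, 4], [1, 2, 3, 4, 5, 6, 2, 1, 3, 7, 6, 2, 3, 4, 5], [1, 2, 3, 4, 5, 6, 2, 3, 4, 7, 6,
    2, 1, 0, 3], [1, 2, 3, 4, 5, 6, 2, 3, 4, 7, 6, 2, 1, 3, 2], [1, 2, 3, 4, 6, 2, 1, 3, 2, 6,
    7, 6, 2, 1, 0], [1, 2, 3, 4, 6, 2, 1, 3, 2, 6, 7, 6, 2, 1, 3], [1, 2, 3, 4, 6, 2, 1, 3, 2,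
    6, 7, 6, 2, 3, 4], [1, 2, 3, 4, 6, 2, 1, 3, 2, 7, 6, 2, 1, 0, 3], [1, 2, 3, 4, 6, 2, 1, 3,
    2, 7, 6, 2, 1, 3, 2], [1, 2, 3, 4, 6, 2, 1, 3, 2, 7, 6, 2, 1, 3, 4], [1, 2, 3, 4, 6, 2, 1,
    3, 2, 7, 6, 2, 3, 4, 5], [1, 2, 3, 4, 6, 2, 1, 3, 7, 6, 2, 1, 0, 3, 4], [1, 2, 3, 4, 6, 2,
    1, 3, 7, 6, 2, 1, 3, 4, 5], [1, 0, 2, 3, 4, 5, 6, 2, 3, 4, 7, 6, 2, 1, 0, 3], [1, 0, 2, 3,
    4, 5, 6, 2, 3, 4, 7, 6, 2, 1, 3, 2], [1, 2, 3, 4, 5, 6, 2, 1, 3, 2, 4, 3, 6, 2, 1, 0], [1,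
    2, 3, 4, 5, 6, 2, 1, 3, 2, 4, 3, 6, 2, 1, 7], [1, 2, 3, 4, 5, 6, 2, 1, 3, 2, 4, 3, 6, 2, 7,
    6], [1, 2, 3, 4, 5, 6, 2, 1, 3, 2, 4, 3, 6, 7, 6, 2], [1, 2, 3, 4, 5, 6, 2, 1, 3, 2, 4, 3,
    7, 6, 2, 1], [1, 2, 3, 4, 5, 6, 2, 1, 3, 2, 4, 3, 7, 6, 2, 3], [1, 2, 3, 4, 5, 6, 2, 1, 3,
    2, 4, 6, 7, 6, 2, 1], [1, 2, 3, 4, 5, 6, 2, 1, 3, 2, 4, 6, 7, 6, 2, 3], [1, 2, 3, 4, 5, 6,
    2, 1, 3, 2, 4, 7, 6, 2, 1, 0], [1, 2, 3, 4, 5, 6, 2, 1, 3, 2, 4, 7, 6, 2, 1, 3], [1, 2, 3,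
    4, 5, 6, 2, 1, 3, 2, 4, 7, 6, 2, 3, 4], [1, 2, 3, 4, 5, 6, 2, 1, 3, 2, 6, 7, 6, 2, 1, 0],
    [1, 2, 3, 4, 5, 6, 2, 1, 3, 2, 6, 7, 6, 2, 1, 3], [1, 2, 3, 4, 5, 6, 2, 1, 3, 2, 6, 7, 6, 2,
    3, 4], [1, 2, 3, 4, 5, 6, 2, 1, 3, 2, 7, 6, 2, 1, 0, 3], [1, 2, 3, 4, 5, 6, 2, 1, 3, 2, 7,
    6, 2, 1, 3, 2], [1, 2, 3, 4, 5, 6, 2, 1, 3, 2, 7, 6, 2, 1, 3, 4], [1, 2, 3, 4, 5, 6, 2, 1,
    3, 2, 7, 6, 2, 3, 4, 5], [1, 2, 3, 4, 5, 6, 2, 1, 3, 4, 7, 6, 2, 1, 0, 3], [1, 2, 3, 4, 5,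
    6, 2, 1, 3, 4, 7, 6, 2, 1, 3, 2], [1, 2, 3, 4, 5, 6, 2, 1, 3, 4, 7, 6, 2, 1, 3, 4], [1, 2,
    3, 4, 5, 6, 2, 1, 3, 4, 7, 6, 2, 3, 4, 5], [1, 2, 3, 4, 5, 6, 2, 1, 3, 7, 6, 2, 1, 0, 3, 4],
    [1, 2, 3, 4, 5, 6, 2, 1, 3, 7, 6, 2, 1, 3, 4, 5], [1, 2, 3, 4, 5, 6, 2, 3, 4, 7, 6, 2, 1, 0,
    3, 2], [1, 2, 3, 4, 5, 6, 2, 3, 4, 7, 6, 2, 1, 3, 2, 6], [1, 2, 3, 4, 6, 2, 1, 3, 2, 6, 7,
    6, 2, 1, 0, 3], [1, 2, 3, 4, 6, 2, 1, 3, 2, 6, 7, 6, 2, 1, 3, 2], [1, 2, 3, 4, 6, 2, 1, 3,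
    2, 6, 7, 6, 2, 1, 3, 4], [1, 2, 3, 4, 6, 2, 1, 3, 2, 6, 7, 6, 2, 3, 4, 5], [1, 2, 3, 4, 6,
    2, 1, 3, 2, 7, 6, 2, 1, 3, 4, 5], [1, 2, 3, 4, 6, 2, 1, 3, 7, 6, 2, 1, 0, 3, 4, 5], [1, 0,
    2, 3, 4, 5, 6, 2, 3, 4, 7, 6, 2, 1, 0, 3, 2], [1, 0, 2, 3, 4, 5, 6, 2, 3, 4, 7, 6, 2, 1, 3,
    2, 6], [1, 2, 3, 4, 5, 6, 2, 1, 3, 2, 4, 3, 6, 2, 7, 6, 2], [1, 2, 3, 4, 5, 6, 2, 1, 3, 2,
    4, 3, 6, 7, 6, 2, 1], [1, 2, 3, 4, 5, 6, 2, 1, 3, 2, 4, 3, 6, 7, 6, 2, 3], [1, 2, 3, 4, 5,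
    6, 2, 1, 3, 2, 4, 3, 7, 6, 2, 1, 0], [1, 2, 3, 4, 5, 6, 2, 1, 3, 2, 4, 3, 7, 6, 2, 1, 3],
    [1, 2, 3, 4, 5, 6, 2, 1, 3, 2, 4, 3, 7, 6, 2, 3, 4], [1, 2, 3, 4, 5, 6, 2, 1, 3, 2, 4, 6, 7,
    6, 2, 1, 0], [1, 2, 3, 4, 5, 6, 2, 1, 3, 2, 4, 6, 7, 6, 2, 1, 3], [1, 2, 3, 4, 5, 6, 2, 1,
    3, 2, 4, 6, 7, 6, 2, 3, 4], [1, 2, 3, 4, 5, 6, 2, 1, 3, 2, 4, 7, 6, 2, 1, 0, 3], [1, 2, 3,
    4, 5, 6, 2, 1, 3, 2, 4, 7, 6, 2, 1, 3, 2], [1, 2, 3, 4, 5, 6, 2, 1, 3, 2, 4, 7, 6, 2, 1, 3,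
    4], [1, 2, 3, 4, 5, 6, 2, 1, 3, 2, 4, 7, 6, 2, 3, 4, 5], [1, 2, 3, 4, 5, 6, 2, 1, 3, 2, 6,
    7, 6, 2, 1, 0, 3], [1, 2, 3, 4, 5, 6, 2, 1, 3, 2, 6, 7, 6, 2, 1, 3, 2], [1, 2, 3, 4, 5, 6,
    2, 1, 3, 2, 6, 7, 6, 2, 1, 3, 4], [1, 2, 3, 4, 5, 6, 2, 1, 3, 2, 6, 7, 6, 2, 3, 4, 5], [1,
    2, 3, 4, 5, 6, 2, 1, 3, 2, 7, 6, 2, 1, 0, 3, 2], [1, 2, 3, 4, 5, 6, 2, 1, 3, 2, 7, 6, 2, 1,
    0, 3, 4], [1, 2, 3, 4, 5, 6, 2, 1, 3, 2, 7, 6, 2, 1, 3, 2, 4], [1, 2, 3, 4, 5, 6, 2, 1, 3,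
    2, 7, 6, 2, 1, 3, 4, 5], [1, 2, 3, 4, 5, 6, 2, 1, 3, 4, 7, 6, 2, 1, 0, 3, 2], [1, 2, 3, 4,
    5, 6, 2, 1, 3, 4, 7, 6, 2, 1, 0, 3, 4], [1, 2, 3, 4, 5, 6, 2, 1, 3, 4, 7, 6, 2, 1, 3, 2, 4],
    [1, 2, 3, 4, 5, 6, 2, 1, 3, 4, 7, 6, 2, 1, 3, 2, 6], [1, 2, 3, 4, 5, 6, 2, 1, 3, 4, 7, 6, 2,
    1, 3, 4, 5], [1, 2, 3, 4, 5, 6, 2, 1, 3, 7, 6, 2, 1, 0, 3, 4, 5], [1, 2, 3, 4, 5, 6, 2, 1,
    3, 2, 4, 3, 6, 2, 7, 6, 2, 3], [1, 2, 3, 4, 5, 6, 2, 1, 3, 2, 4, 3, 6, 7, 6, 2, 1, 3], [1,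
    2, 3, 4, 5, 6, 2, 1, 3, 2, 4, 3, 6, 7, 6, 2, 3, 4], [1, 2, 3, 4, 5, 6, 2, 1, 3, 2, 4, 3, 7,
    6, 2, 1, 0, 3], [1, 2, 3, 4, 5, 6, 2, 1, 3, 2, 4, 3, 7, 6, 2, 1, 3, 2], [1, 2, 3, 4, 5, 6,
    2, 1, 3, 2, 4, 3, 7, 6, 2, 1, 3, 4], [1, 2, 3, 4, 5, 6, 2, 1, 3, 2, 4, 3, 7, 6, 2, 3, 4, 5],
    [1, 2, 3, 4, 5, 6, 2, 1, 3, 2, 4, 6, 7, 6, 2, 1, 0, 3], [1, 2, 3, 4, 5, 6, 2, 1, 3, 2, 4, 6,
    7, 6, 2, 1, 3, 2], [1, 2, 3, 4, 5, 6, 2, 1, 3, 2, 4, 6, 7, 6, 2, 1, 3, 4], [1, 2, 3, 4, 5,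
    6, 2, 1, 3, 2, 4, 6, 7, 6, 2, 3, 4, 5], [1, 2, 3, 4, 5, 6, 2, 1, 3, 2, 4, 7, 6, 2, 1, 0, 3,
    2], [1, 2, 3, 4, 5, 6, 2, 1, 3, 2, 4, 7, 6, 2, 1, 0, 3, 4], [1, 2, 3, 4, 5, 6, 2, 1, 3, 2,
    4, 7, 6, 2, 1, 3, 2, 4], [1, 2, 3, 4, 5, 6, 2, 1, 3, 2, 4, 7, 6, 2, 1, 3, 2, 6], [1, 2, 3,
    4, 5, 6, 2, 1, 3, 2, 4, 7, 6, 2, 1, 3, 4, 5], [1, 2, 3, 4, 5, 6, 2, 1, 3, 2, 6, 7, 6, 2, 1,
    0, 3, 4], [1, 2, 3, 4, 5, 6, 2, 1, 3, 2, 6, 7, 6, 2, 1, 3, 2, 4], [1, 2, 3, 4, 5, 6, 2, 1,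
    3, 2, 6, 7, 6, 2, 1, 3, 4, 5], [1, 2, 3, 4, 5, 6, 2, 1, 3, 2, 7, 6, 2, 1, 3, 2, 4, 3], [1,
    2, 3, 4, 5, 6, 2, 1, 3, 4, 7, 6, 2, 1, 0, 3, 2, 4], [1, 2, 3, 4, 5, 6, 2, 1, 3, 4, 7, 6, 2,
    1, 0, 3, 4, 5], [1, 2, 3, 4, 5, 6, 2, 1, 3, 4, 7, 6, 2, 1, 3, 2, 4, 5], [1, 2, 3, 4, 5, 6,
    2, 1, 3, 4, 7, 6, 2, 1, 3, 2, 4, 6], [1, 2, 3, 4, 5, 6, 2, 1, 3, 2, 4, 3, 6, 2, 7, 6, 2, 3,
    4], [1, 2, 3, 4, 5, 6, 2, 1, 3, 2, 4, 3, 6, 7, 6, 2, 1, 3, 2], [1, 2, 3, 4, 5, 6, 2, 1, 3,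
    2, 4, 3, 6, 7, 6, 2, 1, 3, 4], [1, 2, 3, 4, 5, 6, 2, 1, 3, 2, 4, 3, 6, 7, 6, 2, 3, 4, 5],
    [1, 2, 3, 4, 5, 6, 2, 1, 3, 2, 4, 3, 7, 6, 2, 1, 0, 3, 2], [1, 2, 3, 4, 5, 6, 2, 1, 3, 2, 4,
    3, 7, 6, 2, 1, 0, 3, 4], [1, 2, 3, 4, 5, 6, 2, 1, 3, 2, 4, 3, 7, 6, 2, 1, 3, 2, 4], [1, 2,
    3, 4, 5, 6, 2, 1, 3, 2, 4, 3, 7, 6, 2, 1, 3, 2, 6], [1, 2, 3, 4, 5, 6, 2, 1, 3, 2, 4, 3, 7,
    6, 2, 1, 3, 4, 5], [1, 2, 3, 4, 5, 6, 2, 1, 3, 2, 4, 6, 7, 6, 2, 1, 0, 3, 2], [1, 2, 3, 4,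
    5, 6, 2, 1, 3, 2, 4, 6, 7, 6, 2, 1, 0, 3, 4], [1, 2, 3, 4, 5, 6, 2, 1, 3, 2, 4, 6, 7, 6, 2,
    1, 3, 2, 4], [1, 2, 3, 4, 5, 6, 2, 1, 3, 2, 4, 6, 7, 6, 2, 1, 3, 2, 6], [1, 2, 3, 4, 5, 6,
    2, 1, 3, 2, 4, 6, 7, 6, 2, 1, 3, 4, 5], [1, 2, 3, 4, 5, 6, 2, 1, 3, 2, 4, 7, 6, 2, 1, 0, 3,
    2, 4], [1, 2, 3, 4, 5, 6, 2, 1, 3, 2, 4, 7, 6, 2, 1, 0, 3, 4, 5], [1, 2, 3, 4, 5, 6, 2, 1,
    3, 2, 4, 7, 6, 2, 1, 3, 2, 4, 3], [1, 2, 3, 4, 5, 6, 2, 1, 3, 2, 4, 7, 6, 2, 1, 3, 2, 4, 5],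
    [1, 2, 3, 4, 5, 6, 2, 1, 3, 2, 4, 7, 6, 2, 1, 3, 2, 4, 6], [1, 2, 3, 4, 5, 6, 2, 1, 3, 4, 7,
    6, 2, 1, 0, 3, 2, 4, 5], [1, 2, 3, 4, 5, 6, 2, 1, 3, 4, 7, 6, 2, 1, 3, 2, 4, 5, 6], [1, 2,
    3, 4, 5, 6, 2, 1, 3, 2, 4, 3, 6, 2, 7, 6, 2, 3, 4, 5], [1, 2, 3, 4, 5, 6, 2, 1, 3, 2, 4, 3,
    6, 7, 6, 2, 1, 3, 2, 4], [1, 2, 3, 4, 5, 6, 2, 1, 3, 2, 4, 3, 6, 7, 6, 2, 1, 3, 4, 5], [1,
    2, 3, 4, 5, 6, 2, 1, 3, 2, 4, 3, 7, 6, 2, 1, 0, 3, 2, 1], [1, 2, 3, 4, 5, 6, 2, 1, 3, 2, 4,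
    3, 7, 6, 2, 1, 0, 3, 2, 4], [1, 2, 3, 4, 5, 6, 2, 1, 3, 2, 4, 3, 7, 6, 2, 1, 0, 3, 2, 6],
    [1, 2, 3, 4, 5, 6, 2, 1, 3, 2, 4, 3, 7, 6, 2, 1, 0, 3, 4, 5], [1, 2, 3, 4, 5, 6, 2, 1, 3, 2,
    4, 3, 7, 6, 2, 1, 3, 2, 4, 3], [1, 2, 3, 4, 5, 6, 2, 1, 3, 2, 4, 3, 7, 6, 2, 1, 3, 2, 4, 5],
    [1, 2, 3, 4, 5, 6, 2, 1, 3, 2, 4, 3, 7, 6, 2, 1, 3, 2, 4, 6], [1, 2, 3, 4, 5, 6, 2, 1, 3, 2,
    4, 6, 7, 6, 2, 1, 0, 3, 2, 4], [1, 2, 3, 4, 5, 6, 2, 1, 3, 2, 4, 6, 7, 6, 2, 1, 3, 2, 4, 3],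
    [1, 2, 3, 4, 5, 6, 2, 1, 3, 2, 4, 6, 7, 6, 2, 1, 3, 2, 4, 5], [1, 2, 3, 4, 5, 6, 2, 1, 3, 2,
    4, 6, 7, 6, 2, 1, 3, 2, 4, 6], [1, 2, 3, 4, 5, 6, 2, 1, 3, 2, 4, 7, 6, 2, 1, 3, 2, 4, 3, 6],
    [1, 2, 3, 4, 5, 6, 2, 1, 3, 2, 4, 7, 6, 2, 1, 3, 2, 4, 5, 6], [1, 2, 3, 4, 5, 6, 2, 1, 3, 2,
    4, 3, 6, 7, 6, 2, 1, 3, 2, 4, 3], [1, 2, 3, 4, 5, 6, 2, 1, 3, 2, 4, 3, 6, 7, 6, 2, 1, 3, 2,
    4, 5], [1, 2, 3, 4, 5, 6, 2, 1, 3, 2, 4, 3, 7, 6, 2, 1, 0, 3, 2, 1, 4], [1, 2, 3, 4, 5, 6,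
    2, 1, 3, 2, 4, 3, 7, 6, 2, 1, 0, 3, 2, 4, 3], [1, 2, 3, 4, 5, 6, 2, 1, 3, 2, 4, 3, 7, 6, 2,
    1, 0, 3, 2, 4, 5], [1, 2, 3, 4, 5, 6, 2, 1, 3, 2, 4, 3, 7, 6, 2, 1, 0, 3, 2, 4, 6]]

/-- A point moved otherwise by the transposition of each point and by the first generator. -/
def moveWit : List Nat :=
  [0, 0, 0, 0, 0, 0, 0, 1, 0, 0, 0, 0, 0, 1, 1, 0, 0, 0, 0, 0, 0, 0, 1, 1, 1, 1, 1, 0, 0, 0, 0, 0,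
    0, 0, 1, 0, 1, 1, 1, 1, 1, 0, 0, 0, 0, 0, 0, 1, 0, 0, 1, 0, 1, 1, 1, 1, 1, 0, 0, 0, 0, 0, 1,
    0, 0, 1, 1, 0, 0, 1, 1, 1, 0, 0, 0, 0, 1, 1, 0, 0, 0, 1, 1, 1, 0, 1, 1, 0, 0, 0, 0, 1, 1, 1,
    1, 0, 0, 1, 1, 1, 1, 0, 1, 0, 0, 0, 1, 1, 1, 1, 1, 1, 0, 0, 1, 1, 1, 1, 0, 1, 0, 0, 0, 1, 1,
    1, 1, 1, 1, 1, 1, 0, 0, 1, 1, 0, 1, 1, 0, 1, 0, 0, 0, 1, 1, 1, 1, 1, 1, 1, 0, 1, 1, 0, 0, 0,
    1, 0, 1, 0, 0, 1, 1, 0, 0, 0, 1, 1, 1, 1, 1, 1, 0, 1, 0, 1, 0, 0, 1, 1, 0, 0, 0, 1, 0, 0, 1,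
    0, 0, 1, 0, 0, 0, 1, 1, 1, 1, 0, 1, 0, 1, 0, 0, 1, 0, 0, 1, 0, 0, 1, 0, 0, 0, 0, 1, 0, 0, 0,
    1, 0, 0, 0, 0, 0, 0, 1, 1, 0, 1, 0, 1, 0, 0, 1, 0, 0, 1, 0, 0, 0, 1, 0, 0, 0, 1, 0, 0, 0, 0,
    0, 0, 0, 1, 0, 0, 0, 0, 1, 0, 1, 0, 0, 1, 0, 0, 1, 0, 0, 0, 1, 0, 0, 0, 1, 0, 0, 0, 0, 0, 0,
    0, 0, 0, 0, 1, 0, 1, 0, 0, 0, 1, 0, 0, 0, 1, 0, 0, 0, 0, 0, 0, 0, 0, 0, 0, 0, 0, 0, 1, 0, 0,
    1, 0, 0, 0, 0, 0, 0, 0, 0, 0, 0, 0, 0, 0, 0, 0, 0, 0, 1, 0, 0, 0, 0, 0, 0, 0, 0, 0, 0, 0, 0,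
    0, 0, 0, 0, 0, 0, 0, 0, 0]

/-- The squares, braid and commutation relators. -/
def pairRels : List (List Nat) :=
  [[0, 0], [0, 1, 0, 1, 0, 1], [0, 2, 0, 2], [0, 3, 0, 3], [0, 4, 0, 4], [0, 5, 0, 5], [0, 6, 0,
    6], [0, 7, 0, 7], [1, 1], [1, 2, 1, 2, 1, 2], [1, 3, 1, 3], [1, 4, 1, 4], [1, 5, 1, 5], [1,
    6, 1, 6], [1, 7, 1, 7], [2, 2], [2, 3, 2, 3, 2, 3], [2, 4, 2, 4], [2, 5, 2, 5], [2, 6, 2, 6,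
    2, 6], [2, 7, 2, 7], [3, 3], [3, 4, 3, 4, 3, 4], [3, 5, 3, 5], [3, 6, 3, 6], [3, 7, 3, 7],
    [4, 4], [4, 5, 4, 5, 4, 5], [4, 6, 4, 6], [4, 7, 4, 7], [5, 5], [5, 6, 5, 6], [5, 7, 5, 7],
    [6, 6], [6, 7, 6, 7, 6, 7], [7, 7]]

/-- Their programs. -/
def progPairs : List (List (Nat × Nat)) :=
  [[(0, 0)], [(0, 2), (1, 0), (1, 1), (0, 0), (0, 0)], [(0, 3), (1, 0), (0, 0)], [(0, 4), (1, 0),
    (0, 0)], [(0, 5), (1, 0), (0, 0)], [(0, 6), (1, 0), (0, 0)], [(0, 7), (1, 0), (0, 0)], [(0,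
    8), (1, 0), (0, 0)], [(0, 0)], [(0, 3), (1, 0), (1, 2), (0, 0), (0, 0)], [(0, 4), (1, 0),
    (0, 0)], [(0, 5), (1, 0), (0, 0)], [(0, 6), (1, 0), (0, 0)], [(0, 7), (1, 0), (0, 0)], [(0,
    8), (1, 0), (0, 0)], [(0, 0)], [(0, 4), (1, 0), (1, 3), (0, 0), (0, 0)], [(0, 5), (1, 0),
    (0, 0)], [(0, 6), (1, 0), (0, 0)], [(0, 7), (1, 0), (1, 3), (0, 0), (0, 0)], [(0, 8), (1,
    0), (0, 0)], [(0, 0)], [(0, 5), (1, 0), (1, 4), (0, 0), (0, 0)], [(0, 6), (1, 0), (0, 0)],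
    [(0, 7), (1, 0), (0, 0)], [(0, 8), (1, 0), (0, 0)], [(0, 0)], [(0, 6), (1, 0), (1, 5), (0,
    0), (0, 0)], [(0, 7), (1, 0), (0, 0)], [(0, 8), (1, 0), (0, 0)], [(0, 0)], [(0, 7), (1, 0),
    (0, 0)], [(0, 8), (1, 0), (0, 0)], [(0, 0)], [(0, 8), (1, 0), (1, 7), (0, 0), (0, 0)], [(0,
    0)]]

/-- The spider relator. -/
def relSpider : List Nat :=
  [7, 6, 2, 4, 3, 2, 0, 1, 2, 7, 6, 2, 4, 3, 2, 0, 1, 2, 7, 6, 2, 4, 3, 2, 0, 1, 2, 7, 6, 2, 4, 3,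
    2, 0, 1, 2, 7, 6, 2, 4, 3, 2, 0, 1, 2, 7, 6, 2, 4, 3, 2, 0, 1, 2, 7, 6, 2, 4, 3, 2, 0, 1, 2,
    7, 6, 2, 4, 3, 2, 0, 1, 2, 7, 6, 2, 4, 3, 2, 0, 1, 2, 7, 6, 2, 4, 3, 2, 0, 1, 2]

/-- The odd relator. -/
def relRight : List Nat :=
  [6, 5, 4, 3, 2, 1, 0, 6, 5, 4, 3, 2, 1, 0, 6, 5, 4, 3, 2, 1, 0, 6, 5, 4, 3, 2, 1, 0, 6, 5, 4, 3,
    2, 1, 0, 6, 5, 4, 3, 2, 1, 0, 6, 5, 4, 3, 2, 1, 0, 6, 5, 4, 3, 2, 1, 0, 6, 5, 4, 3, 2, 1, 0]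

/-- The cube of the spider relator. -/
def progSpider : List (Nat × Nat) :=
  [(45, 3), (44, 8), (43, 7), (42, 3), (41, 5), (40, 4), (39, 3), (38, 1), (37, 2), (36, 3), (35,
    8), (34, 7), (33, 3), (32, 5), (31, 4), (30, 3), (29, 1), (28, 2), (27, 3), (26, 8), (25,
    7), (24, 3), (23, 5), (22, 4), (21, 3), (20, 1), (19, 2), (18, 3), (17, 8), (16, 7), (15,
    3), (14, 5), (13, 4), (12, 3), (11, 1), (10, 2), (9, 3), (8, 8), (7, 7), (6, 3), (5, 5), (4,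
    4), (3, 3), (2, 1), (1, 0), (1, 1), (0, 0), (43, 1), (42, 0), (41, 8), (40, 7), (39, 3),
    (38, 5), (37, 4), (36, 3), (35, 0), (41, 4), (40, 8), (39, 7), (38, 3), (37, 5), (36, 4),
    (35, 0), (43, 8), (42, 7), (41, 3), (40, 4), (39, 8), (38, 7), (37, 3), (36, 5), (35, 4),
    (34, 2), (33, 3), (32, 0), (41, 7), (40, 3), (39, 4), (38, 8), (37, 7), (36, 3), (35, 5),
    (34, 4), (33, 2), (32, 3), (31, 7), (30, 3), (29, 0), (45, 5), (44, 4), (43, 3), (42, 1),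
    (41, 2), (40, 7), (39, 3), (38, 4), (37, 8), (36, 7), (35, 3), (34, 5), (33, 4), (32, 2),
    (31, 3), (30, 7), (29, 0), (44, 5), (43, 4), (42, 3), (41, 1), (40, 2), (39, 7), (38, 3),
    (37, 4), (36, 8), (35, 7), (34, 3), (33, 5), (32, 4), (31, 2), (30, 3), (29, 7), (28, 0),
    (44, 8), (43, 5), (42, 4), (41, 3), (40, 1), (39, 2), (38, 7), (37, 3), (36, 4), (35, 8),
    (34, 7), (33, 3), (32, 5), (31, 4), (30, 2), (29, 3), (28, 7), (27, 0), (42, 5), (41, 4),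
    (40, 3), (39, 1), (38, 2), (37, 7), (36, 3), (35, 4), (34, 8), (33, 7), (32, 3), (31, 5),
    (30, 4), (29, 2), (28, 3), (27, 7), (26, 1), (25, 2), (24, 3), (23, 8), (22, 7), (21, 3),
    (20, 0), (42, 2), (41, 5), (40, 4), (39, 3), (38, 1), (37, 2), (36, 7), (35, 3), (34, 4),
    (33, 8), (32, 7), (31, 3), (30, 5), (29, 4), (28, 2), (27, 3), (26, 7), (25, 1), (24, 2),
    (23, 3), (22, 8), (21, 7), (20, 0), (44, 5), (43, 4), (42, 3), (41, 2), (40, 5), (39, 4),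
    (38, 3), (37, 1), (36, 2), (35, 7), (34, 3), (33, 4), (32, 8), (31, 7), (30, 3), (29, 5),
    (28, 4), (27, 2), (26, 3), (25, 7), (24, 1), (23, 2), (22, 3), (21, 8), (20, 7), (19, 4),
    (18, 3), (17, 0), (42, 4), (41, 3), (40, 2), (39, 5), (38, 4), (37, 3), (36, 1), (35, 2),
    (34, 7), (33, 3), (32, 4), (31, 8), (30, 7), (29, 3), (28, 5), (27, 4), (26, 2), (25, 3),
    (24, 7), (23, 1), (22, 2), (21, 3), (20, 8), (19, 7), (18, 4), (17, 3), (16, 2), (15, 3),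
    (14, 0), (46, 1), (45, 2), (44, 3), (43, 8), (42, 7), (41, 4), (40, 3), (39, 2), (38, 5),
    (37, 4), (36, 3), (35, 1), (34, 2), (33, 7), (32, 3), (31, 4), (30, 8), (29, 7), (28, 3),
    (27, 5), (26, 4), (25, 2), (24, 3), (23, 7), (22, 1), (21, 2), (20, 3), (19, 8), (18, 7),
    (17, 4), (16, 3), (15, 2), (14, 0), (45, 1), (44, 2), (43, 3), (42, 8), (41, 7), (40, 4),
    (39, 3), (38, 2), (37, 5), (36, 4), (35, 3), (34, 1), (33, 2), (32, 7), (31, 3), (30, 4),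
    (29, 8), (28, 7), (27, 3), (26, 5), (25, 4), (24, 2), (23, 3), (22, 7), (21, 1), (20, 2),
    (19, 3), (18, 8), (17, 7), (16, 4), (15, 3), (14, 2), (13, 0), (45, 5), (44, 1), (43, 2),
    (42, 3), (41, 8), (40, 7), (39, 4), (38, 3), (37, 2), (36, 5), (35, 4), (34, 3), (33, 1),
    (32, 2), (31, 7), (30, 3), (29, 4), (28, 8), (27, 7), (26, 3), (25, 5), (24, 4), (23, 2),
    (22, 3), (21, 7), (20, 1), (19, 2), (18, 3), (17, 8), (16, 7), (15, 4), (14, 3), (13, 2),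
    (12, 0), (43, 1), (42, 2), (41, 3), (40, 8), (39, 7), (38, 4), (37, 3), (36, 2), (35, 5),
    (34, 4), (33, 3), (32, 1), (31, 2), (30, 7), (29, 3), (28, 4), (27, 8), (26, 7), (25, 3),
    (24, 5), (23, 4), (22, 2), (21, 3), (20, 7), (19, 1), (18, 2), (17, 3), (16, 8), (15, 7),
    (14, 4), (13, 3), (12, 2), (11, 5), (10, 4), (9, 3), (8, 1), (7, 2), (6, 3), (5, 0), (43,
    7), (42, 1), (41, 2), (40, 3), (39, 8), (38, 7), (37, 4), (36, 3), (35, 2), (34, 5), (33,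
    4), (32, 3), (31, 1), (30, 2), (29, 7), (28, 3), (27, 4), (26, 8), (25, 7), (24, 3), (23,
    5), (22, 4), (21, 2), (20, 3), (19, 7), (18, 1), (17, 2), (16, 3), (15, 8), (14, 7), (13,
    4), (12, 3), (11, 2), (10, 5), (9, 4), (8, 3), (7, 1), (6, 2), (5, 0), (45, 1), (44, 2),
    (43, 3), (42, 7), (41, 1), (40, 2), (39, 3), (38, 8), (37, 7), (36, 4), (35, 3), (34, 2),
    (33, 5), (32, 4), (31, 3), (30, 1), (29, 2), (28, 7), (27, 3), (26, 4), (25, 8), (24, 7),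
    (23, 3), (22, 5), (21, 4), (20, 2), (19, 3), (18, 7), (17, 1), (16, 2), (15, 3), (14, 8),
    (13, 7), (12, 4), (11, 3), (10, 2), (9, 5), (8, 4), (7, 3), (6, 1), (5, 2), (4, 7), (3, 3),
    (2, 0), (43, 2), (42, 3), (41, 7), (40, 1), (39, 2), (38, 3), (37, 8), (36, 7), (35, 4),
    (34, 3), (33, 2), (32, 5), (31, 4), (30, 3), (29, 1), (28, 2), (27, 7), (26, 3), (25, 4),
    (24, 8), (23, 7), (22, 3), (21, 5), (20, 4), (19, 2), (18, 3), (17, 7), (16, 1), (15, 2),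
    (14, 3), (13, 8), (12, 7), (11, 4), (10, 3), (9, 2), (8, 5), (7, 4), (6, 3), (5, 1), (4, 2),
    (3, 7), (2, 3), (1, 4), (0, 0), (87, 3), (86, 1), (85, 2), (84, 3), (83, 8), (82, 7), (81,
    3), (80, 5), (79, 4), (78, 3), (77, 1), (76, 2), (75, 3), (74, 8), (73, 7), (72, 3), (71,
    5), (70, 4), (69, 3), (68, 1), (67, 2), (66, 3), (65, 8), (64, 7), (63, 3), (62, 5), (61,
    4), (60, 3), (59, 1), (58, 2), (57, 3), (56, 8), (55, 7), (54, 3), (53, 5), (52, 4), (51,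
    3), (50, 1), (49, 2), (48, 3), (47, 8), (46, 7), (45, 3), (44, 5), (43, 0), (87, 5), (86,
    0), (85, 1), (84, 2), (83, 3), (82, 8), (81, 7), (80, 3), (79, 0), (85, 7), (84, 1), (83,
    2), (82, 3), (81, 8), (80, 7), (79, 0), (47, 3), (46, 8), (45, 7), (44, 3), (43, 5), (42,
    2), (41, 3), (40, 0), (47, 1), (46, 0), (45, 8), (44, 7), (43, 3), (42, 5), (41, 2), (40,
    3), (39, 1), (38, 2), (37, 0), (81, 1), (80, 2), (79, 3), (78, 7), (77, 1), (76, 2), (75,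
    3), (74, 8), (73, 7), (72, 4), (71, 3), (70, 0), (79, 2), (78, 3), (77, 7), (76, 1), (75,
    2), (74, 3), (73, 8), (72, 7), (71, 4), (70, 3), (69, 2), (68, 3), (67, 0), (49, 8), (48,
    7), (47, 3), (46, 5), (45, 4), (44, 8), (43, 7), (42, 3), (41, 5), (40, 2), (39, 3), (38,
    1), (37, 2), (36, 0), (81, 8), (80, 7), (79, 3), (78, 5), (77, 4), (76, 2), (75, 3), (74,
    7), (73, 1), (72, 2), (71, 3), (70, 8), (69, 7), (68, 4), (67, 3), (66, 2), (65, 0), (80,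
    8), (79, 7), (78, 3), (77, 5), (76, 4), (75, 2), (74, 3), (73, 7), (72, 1), (71, 2), (70,
    3), (69, 8), (68, 7), (67, 4), (66, 3), (65, 2), (64, 0), (80, 1), (79, 8), (78, 7), (77,
    3), (76, 5), (75, 4), (74, 2), (73, 3), (72, 7), (71, 1), (70, 2), (69, 3), (68, 8), (67,
    7), (66, 4), (65, 3), (64, 2), (63, 0), (48, 8), (47, 7), (46, 3), (45, 5), (44, 4), (43,
    8), (42, 7), (41, 3), (40, 5), (39, 2), (38, 3), (37, 1), (36, 2), (35, 7), (34, 4), (33,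
    3), (32, 2), (31, 5), (30, 4), (29, 3), (28, 1), (27, 0), (54, 8), (53, 7), (52, 3), (51,
    5), (50, 4), (49, 3), (48, 1), (47, 8), (46, 7), (45, 3), (44, 5), (43, 4), (42, 8), (41,
    0), (52, 7), (51, 3), (50, 5), (49, 4), (48, 3), (47, 1), (46, 8), (45, 7), (44, 3), (43,
    5), (42, 4), (41, 8), (40, 3), (39, 0), (42, 5), (41, 4), (40, 8), (39, 3), (38, 2), (37,
    3), (36, 1), (35, 2), (34, 7), (33, 4), (32, 3), (31, 2), (30, 5), (29, 4), (28, 3), (27,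
    1), (26, 7), (25, 3), (24, 0), (76, 8), (75, 7), (74, 3), (73, 5), (72, 4), (71, 1), (70,
    8), (69, 7), (68, 3), (67, 5), (66, 4), (65, 2), (64, 3), (63, 7), (62, 1), (61, 2), (60,
    3), (59, 8), (58, 7), (57, 4), (56, 3), (55, 2), (54, 5), (53, 4), (52, 3), (51, 1), (50,
    2), (49, 7), (48, 3), (47, 0), (74, 7), (73, 3), (72, 5), (71, 4), (70, 1), (69, 8), (68,
    7), (67, 3), (66, 5), (65, 4), (64, 2), (63, 3), (62, 7), (61, 1), (60, 2), (59, 3), (58,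
    8), (57, 7), (56, 4), (55, 3), (54, 2), (53, 5), (52, 4), (51, 3), (50, 1), (49, 2), (48,
    7), (47, 3), (46, 4), (45, 3), (44, 0), (78, 5), (77, 4), (76, 3), (75, 1), (74, 2), (73,
    7), (72, 3), (71, 5), (70, 4), (69, 1), (68, 8), (67, 7), (66, 3), (65, 5), (64, 4), (63,
    2), (62, 3), (61, 7), (60, 1), (59, 2), (58, 3), (57, 8), (56, 7), (55, 4), (54, 3), (53,
    2), (52, 5), (51, 4), (50, 3), (49, 1), (48, 2), (47, 7), (46, 3), (45, 4), (44, 3), (43,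
    8), (42, 7), (41, 5), (40, 4), (39, 0), (116, 3), (115, 8), (114, 7), (113, 3), (112, 5),
    (111, 4), (110, 3), (109, 1), (108, 2), (107, 3), (106, 8), (105, 7), (104, 3), (103, 5),
    (102, 4), (101, 3), (100, 1), (99, 2), (98, 3), (97, 8), (96, 7), (95, 3), (94, 5), (93, 4),
    (92, 3), (91, 1), (90, 2), (89, 3), (88, 8), (87, 7), (86, 3), (85, 5), (84, 4), (83, 3),
    (82, 1), (81, 2), (80, 3), (79, 8), (78, 7), (77, 5), (76, 4), (75, 3), (74, 1), (73, 0),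
    (116, 1), (115, 0), (72, 7), (71, 3), (70, 5), (69, 4), (68, 0), (74, 5), (73, 4), (72, 3),
    (71, 7), (70, 0), (110, 8), (109, 7), (108, 3), (107, 5), (106, 4), (105, 3), (104, 0),
    (110, 4), (109, 8), (108, 7), (107, 3), (106, 5), (105, 4), (104, 0), (73, 5), (72, 4), (71,
    3), (70, 7), (69, 5), (68, 4), (67, 8), (66, 0), (72, 5), (71, 4), (70, 3), (69, 7), (68,
    5), (67, 4), (66, 8), (65, 3), (64, 0), (76, 5), (75, 4), (74, 3), (73, 1), (72, 2), (71,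
    5), (70, 4), (69, 3), (68, 7), (67, 0), (106, 8), (105, 7), (104, 3), (103, 4), (102, 8),
    (101, 7), (100, 3), (99, 5), (98, 4), (97, 2), (96, 3), (95, 0), (104, 7), (103, 3), (102,
    4), (101, 8), (100, 7), (99, 3), (98, 5), (97, 4), (96, 2), (95, 3), (94, 7), (93, 3), (92,
    0), (108, 5), (107, 4), (106, 3), (105, 1), (104, 2), (103, 7), (102, 3), (101, 4), (100,
    8), (99, 7), (98, 3), (97, 5), (96, 4), (95, 2), (94, 3), (93, 7), (92, 0), (107, 5), (106,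
    4), (105, 3), (104, 1), (103, 2), (102, 7), (101, 3), (100, 4), (99, 8), (98, 7), (97, 3),
    (96, 5), (95, 4), (94, 2), (93, 3), (92, 7), (91, 0), (107, 8), (106, 5), (105, 4), (104,
    3), (103, 1), (102, 2), (101, 7), (100, 3), (99, 4), (98, 8), (97, 7), (96, 3), (95, 5),
    (94, 4), (93, 2), (92, 3), (91, 7), (90, 0), (75, 5), (74, 4), (73, 3), (72, 1), (71, 2),
    (70, 5), (69, 4), (68, 3), (67, 7), (66, 4), (65, 8), (64, 3), (63, 4), (62, 2), (61, 3),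
    (60, 7), (59, 1), (58, 2), (57, 3), (56, 0), (81, 5), (80, 4), (79, 3), (78, 1), (77, 2),
    (76, 3), (75, 8), (74, 5), (73, 4), (72, 3), (71, 1), (70, 2), (69, 5), (68, 0), (59, 7),
    (58, 1), (57, 2), (56, 3), (55, 7), (54, 4), (53, 3), (52, 2), (51, 5), (50, 4), (49, 3),
    (48, 1), (47, 2), (46, 7), (45, 3), (44, 4), (43, 3), (42, 8), (41, 7), (40, 5), (39, 0),
    (77, 4), (76, 3), (75, 1), (74, 2), (73, 3), (72, 8), (71, 5), (70, 4), (69, 3), (68, 1),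
    (67, 2), (66, 5), (65, 3), (64, 7), (63, 4), (62, 8), (61, 3), (60, 4), (59, 2), (58, 7),
    (57, 1), (56, 0), (67, 1), (66, 2), (65, 5), (64, 3), (63, 7), (62, 4), (61, 8), (60, 3),
    (59, 4), (58, 2), (57, 7), (56, 1), (55, 3), (54, 7), (53, 4), (52, 0), (52, 4), (51, 2),
    (50, 5), (49, 4), (48, 3), (47, 1), (46, 2), (45, 7), (44, 3), (43, 4), (42, 3), (41, 8),
    (40, 7), (39, 5), (38, 3), (37, 2), (36, 3), (35, 1), (34, 2), (33, 0), (99, 5), (98, 4),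
    (97, 3), (96, 1), (95, 2), (94, 8), (93, 5), (92, 4), (91, 3), (90, 1), (89, 2), (88, 7),
    (87, 3), (86, 4), (85, 8), (84, 7), (83, 3), (82, 5), (81, 4), (80, 2), (79, 3), (78, 7),
    (77, 1), (76, 2), (75, 3), (74, 8), (73, 7), (72, 4), (71, 3), (70, 0), (97, 4), (96, 3),
    (95, 1), (94, 2), (93, 8), (92, 5), (91, 4), (90, 3), (89, 1), (88, 2), (87, 7), (86, 3),
    (85, 4), (84, 8), (83, 7), (82, 3), (81, 5), (80, 4), (79, 2), (78, 3), (77, 7), (76, 1),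
    (75, 2), (74, 3), (73, 8), (72, 7), (71, 4), (70, 3), (69, 2), (68, 3), (67, 0), (65, 4),
    (64, 1), (63, 2), (62, 5), (61, 3), (60, 7), (59, 4), (58, 8), (57, 3), (56, 4), (55, 2),
    (54, 7), (53, 1), (52, 3), (51, 4), (50, 2), (49, 5), (48, 4), (47, 3), (46, 1), (45, 2),
    (44, 7), (43, 3), (42, 4), (41, 3), (40, 8), (39, 7), (38, 5), (37, 3), (36, 2), (35, 3),
    (34, 1), (33, 2), (32, 4), (31, 3), (30, 2), (29, 5), (28, 4), (27, 0), (99, 1), (98, 2),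
    (97, 3), (96, 8), (95, 7), (94, 4), (93, 3), (92, 1), (91, 2), (90, 8), (89, 5), (88, 4),
    (87, 3), (86, 1), (85, 2), (84, 7), (83, 3), (82, 4), (81, 8), (80, 7), (79, 3), (78, 5),
    (77, 4), (76, 2), (75, 3), (74, 7), (73, 1), (72, 2), (71, 3), (70, 8), (69, 7), (68, 4),
    (67, 3), (66, 2), (65, 3), (64, 0), (65, 2), (64, 3), (63, 1), (62, 2), (61, 5), (60, 3),
    (59, 7), (58, 4), (57, 8), (56, 3), (55, 4), (54, 2), (53, 7), (52, 1), (51, 3), (50, 4),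
    (49, 2), (48, 5), (47, 4), (46, 3), (45, 1), (44, 2), (43, 7), (42, 3), (41, 4), (40, 3),
    (39, 8), (38, 7), (37, 5), (36, 3), (35, 2), (34, 3), (33, 1), (32, 2), (31, 4), (30, 3),
    (29, 2), (28, 5), (27, 4), (26, 0), (76, 3), (75, 5), (74, 4), (73, 2), (72, 3), (71, 7),
    (70, 1), (69, 2), (68, 3), (67, 8), (66, 7), (65, 4), (64, 2), (63, 3), (62, 1), (61, 2),
    (60, 5), (59, 3), (58, 7), (57, 4), (56, 8), (55, 3), (54, 4), (53, 2), (52, 7), (51, 1),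
    (50, 3), (49, 4), (48, 2), (47, 5), (46, 4), (45, 3), (44, 1), (43, 2), (42, 7), (41, 0),
    (52, 2), (51, 7), (50, 1), (49, 3), (48, 4), (47, 2), (46, 5), (45, 4), (44, 3), (43, 1),
    (42, 2), (41, 7), (40, 4), (39, 3), (38, 8), (37, 7), (36, 5), (35, 3), (34, 2), (33, 3),
    (32, 1), (31, 2), (30, 4), (29, 3), (28, 2), (27, 5), (26, 4), (25, 7), (24, 3), (23, 8),
    (22, 7), (21, 3), (20, 5), (19, 4), (18, 2), (17, 3), (16, 0), (49, 1), (48, 3), (47, 4),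
    (46, 2), (45, 5), (44, 4), (43, 3), (42, 1), (41, 2), (40, 7), (39, 4), (38, 3), (37, 8),
    (36, 7), (35, 5), (34, 3), (33, 2), (32, 3), (31, 1), (30, 2), (29, 4), (28, 3), (27, 2),
    (26, 5), (25, 4), (24, 7), (23, 3), (22, 8), (21, 7), (20, 3), (19, 5), (18, 4), (17, 2),
    (16, 3), (15, 1), (14, 2), (13, 3), (12, 8), (11, 7), (10, 4), (9, 3), (8, 2), (7, 5), (6,
    0), (49, 2), (48, 1), (47, 3), (46, 4), (45, 2), (44, 5), (43, 4), (42, 3), (41, 0), (55,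
    1), (54, 2), (53, 5), (52, 3), (51, 7), (50, 4), (49, 8), (48, 0), (54, 1), (53, 2), (52,
    5), (51, 3), (50, 7), (49, 4), (48, 8), (47, 0), (14, 1), (13, 2), (12, 3), (11, 8), (10,
    7), (9, 4), (8, 3), (7, 2), (6, 5), (5, 0), (52, 4), (51, 1), (50, 2), (49, 5), (48, 3),
    (47, 7), (46, 4), (45, 8), (44, 3), (43, 0), (47, 3), (46, 7), (45, 4), (44, 8), (43, 3),
    (42, 2), (41, 5), (40, 4), (39, 3), (38, 0), (52, 2), (51, 3), (50, 8), (49, 4), (48, 1),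
    (47, 2), (46, 3), (45, 7), (44, 0), (13, 1), (12, 2), (11, 3), (10, 8), (9, 7), (8, 4), (7,
    3), (6, 2), (5, 5), (4, 1), (3, 0), (12, 1), (11, 2), (10, 3), (9, 8), (8, 7), (7, 4), (6,
    3), (5, 2), (4, 5), (3, 1), (2, 0), (12, 5), (11, 1), (10, 2), (9, 3), (8, 8), (7, 7), (6,
    4), (5, 3), (4, 2), (3, 5), (2, 1), (1, 0), (36, 3), (35, 2), (34, 5), (33, 4), (32, 3),
    (31, 7), (30, 4), (29, 3), (28, 8), (27, 7), (26, 5), (25, 0), (37, 3), (36, 7), (35, 3),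
    (34, 2), (33, 5), (32, 4), (31, 3), (30, 7), (29, 4), (28, 0), (27, 8), (26, 7), (25, 5),
    (24, 2), (23, 3), (22, 1), (21, 2), (20, 4), (19, 3), (18, 2), (17, 5), (16, 4), (15, 7),
    (14, 3), (13, 8), (12, 7), (11, 5), (10, 1), (9, 2), (8, 3), (7, 0), (44, 5), (43, 4), (42,
    2), (41, 3), (40, 7), (39, 2), (38, 3), (37, 8), (36, 4), (35, 1), (34, 3), (33, 7), (32,
    3), (31, 2), (30, 5), (29, 4), (28, 3), (27, 7), (26, 8), (25, 0), (43, 5), (42, 4), (41,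
    2), (40, 3), (39, 7), (38, 2), (37, 3), (36, 8), (35, 4), (34, 1), (33, 3), (32, 7), (31,
    3), (30, 2), (29, 5), (28, 4), (27, 3), (26, 7), (25, 8), (24, 0), (42, 5), (41, 4), (40,
    2), (39, 3), (38, 7), (37, 2), (36, 3), (35, 8), (34, 4), (33, 1), (32, 3), (31, 7), (30,
    3), (29, 2), (28, 5), (27, 4), (26, 3), (25, 7), (24, 8), (23, 2), (22, 0), (43, 7), (42,
    3), (41, 5), (40, 4), (39, 2), (38, 3), (37, 7), (36, 2), (35, 3), (34, 8), (33, 4), (32,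
    1), (31, 0), (45, 4), (44, 3), (43, 1), (42, 7), (41, 3), (40, 5), (39, 4), (38, 2), (37,
    3), (36, 7), (35, 2), (34, 0), (21, 1), (20, 2), (19, 4), (18, 3), (17, 2), (16, 5), (15,
    4), (14, 7), (13, 3), (12, 8), (11, 7), (10, 5), (9, 1), (8, 2), (7, 3), (6, 0), (31, 8),
    (30, 4), (29, 1), (28, 7), (27, 3), (26, 2), (25, 5), (24, 4), (23, 3), (22, 7), (21, 8),
    (20, 1), (19, 2), (18, 4), (17, 3), (16, 2), (15, 5), (14, 4), (13, 7), (12, 3), (11, 0),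
    (57, 2), (56, 3), (55, 8), (54, 7), (53, 3), (52, 5), (51, 4), (50, 1), (49, 2), (48, 3),
    (47, 8), (46, 7), (45, 4), (44, 3), (43, 1), (42, 2), (41, 8), (40, 4), (39, 3), (38, 1),
    (37, 7), (36, 0), (43, 3), (42, 1), (41, 2), (40, 8), (39, 4), (38, 3), (37, 1), (36, 7),
    (35, 5), (34, 4), (33, 2), (32, 3), (31, 7), (30, 8), (29, 4), (28, 0), (51, 7), (50, 3),
    (49, 5), (48, 4), (47, 1), (46, 2), (45, 3), (44, 8), (43, 7), (42, 3), (41, 1), (40, 2),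
    (39, 8), (38, 4), (37, 3), (36, 1), (35, 7), (34, 5), (33, 4), (32, 2), (31, 3), (30, 7),
    (29, 8), (28, 4), (27, 7), (26, 0), (58, 8), (57, 7), (56, 3), (55, 5), (54, 4), (53, 3),
    (52, 2), (51, 3), (50, 7), (49, 3), (48, 5), (47, 4), (46, 1), (45, 2), (44, 3), (43, 8),
    (42, 7), (41, 3), (40, 0), (25, 2), (24, 5), (23, 4), (22, 3), (21, 7), (20, 8), (19, 1),
    (18, 2), (17, 4), (16, 3), (15, 2), (14, 5), (13, 4), (12, 7), (11, 3), (10, 7), (9, 5), (8,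
    1), (7, 2), (6, 3), (5, 4), (4, 3), (3, 0), (50, 3), (49, 2), (48, 3), (47, 7), (46, 3),
    (45, 5), (44, 4), (43, 1), (42, 2), (41, 3), (40, 8), (39, 7), (38, 3), (37, 2), (36, 8),
    (35, 4), (34, 3), (33, 1), (32, 7), (31, 5), (30, 4), (29, 2), (28, 3), (27, 7), (26, 8),
    (25, 4), (24, 2), (23, 5), (22, 4), (21, 3), (20, 7), (19, 8), (18, 1), (17, 2), (16, 4),
    (15, 0), (15, 4), (14, 0), (48, 5), (47, 0), (49, 8), (48, 7), (47, 5), (46, 0), (45, 3),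
    (44, 7), (43, 3), (42, 0), (44, 3), (43, 7), (42, 0), (45, 1), (44, 8), (43, 0), (43, 8),
    (42, 7), (41, 4), (40, 0), (42, 8), (41, 7), (40, 0), (13, 5), (12, 4), (11, 7), (10, 3),
    (9, 7), (8, 0), (12, 5), (11, 4), (10, 7), (9, 3), (8, 7), (7, 0), (36, 7), (35, 2), (34,
    3), (33, 8), (32, 7), (31, 0), (39, 8), (38, 7), (37, 3), (36, 5), (35, 0), (35, 5), (34,
    2), (33, 3), (32, 8), (31, 7), (30, 0), (36, 8), (35, 7), (34, 5), (33, 0), (17, 2), (16,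
    5), (15, 4), (14, 3), (13, 7), (12, 8), (11, 0), (16, 2), (15, 5), (14, 4), (13, 3), (12,
    7), (11, 8), (10, 4), (9, 0), (32, 1), (31, 8), (30, 7), (29, 5), (28, 3), (27, 8), (26, 7),
    (25, 0), (30, 8), (29, 7), (28, 5), (27, 3), (26, 8), (25, 7), (24, 4), (23, 3), (22, 0),
    (17, 3), (16, 7), (15, 2), (14, 5), (13, 4), (12, 3), (11, 7), (10, 8), (9, 4), (8, 0), (7,
    7), (6, 2), (5, 3), (4, 4), (3, 0), (22, 3), (21, 8), (20, 7), (19, 4), (18, 3), (17, 7),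
    (16, 5), (15, 4), (14, 3), (13, 0), (23, 8), (22, 7), (21, 3), (20, 8), (19, 7), (18, 4),
    (17, 3), (16, 0), (25, 7), (24, 3), (23, 5), (22, 8), (21, 7), (20, 0), (20, 7), (19, 8),
    (18, 0), (22, 7), (21, 3), (20, 5), (19, 0), (18, 8), (17, 4), (16, 3), (15, 5), (14, 4),
    (13, 0), (13, 4), (12, 2), (11, 5), (10, 0), (15, 8), (14, 4), (13, 3), (12, 0), (11, 2),
    (10, 5), (9, 3), (8, 7), (7, 8), (6, 7), (5, 0), (13, 7), (12, 8), (11, 4), (10, 0), (10,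
    4), (9, 5), (8, 3), (7, 7), (6, 8), (5, 0), (9, 4), (8, 5), (7, 3), (6, 7), (5, 8), (4, 0),
    (10, 3), (9, 1), (8, 4), (7, 5), (6, 0), (10, 5), (9, 0), (6, 5), (5, 7), (4, 8), (3, 4),
    (2, 0), (1, 1), (0, 0), (4, 1), (3, 0), (3, 1), (2, 0), (1, 8), (0, 0), (0, 0)]

/-- The square of the odd relator. -/
def progRight : List (Nat × Nat) :=
  [(62, 7), (61, 6), (60, 5), (59, 4), (58, 3), (57, 2), (56, 1), (55, 7), (54, 6), (53, 5), (52,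
    4), (51, 3), (50, 2), (49, 1), (48, 7), (47, 6), (46, 5), (45, 4), (44, 3), (43, 2), (42,
    1), (41, 7), (40, 6), (39, 5), (38, 4), (37, 3), (36, 2), (35, 1), (34, 7), (33, 6), (32,
    5), (31, 4), (30, 3), (29, 2), (28, 1), (27, 7), (26, 6), (25, 5), (24, 4), (23, 3), (22,
    2), (21, 1), (20, 7), (19, 6), (18, 5), (17, 4), (16, 3), (15, 2), (14, 1), (13, 7), (12,
    6), (11, 5), (10, 4), (9, 3), (8, 2), (7, 1), (6, 7), (5, 6), (4, 5), (3, 4), (2, 3), (1,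
    2), (0, 0), (65, 5), (64, 4), (63, 3), (62, 2), (61, 7), (60, 6), (59, 5), (58, 4), (57, 3),
    (56, 2), (55, 1), (54, 7), (53, 6), (52, 5), (51, 4), (50, 3), (49, 2), (48, 1), (47, 7),
    (46, 6), (45, 5), (44, 4), (43, 3), (42, 2), (41, 1), (40, 7), (39, 6), (38, 5), (37, 4),
    (36, 3), (35, 2), (34, 1), (33, 7), (32, 0), (58, 5), (57, 4), (56, 3), (55, 2), (54, 1),
    (53, 7), (52, 6), (51, 5), (50, 4), (49, 3), (48, 2), (47, 1), (46, 7), (45, 6), (44, 5),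
    (43, 4), (42, 3), (41, 2), (40, 1), (39, 7), (38, 6), (37, 5), (36, 4), (35, 3), (34, 2),
    (33, 1), (32, 7), (31, 5), (30, 4), (29, 3), (28, 2), (27, 0), (82, 5), (81, 4), (80, 3),
    (79, 2), (78, 1), (77, 7), (76, 6), (75, 5), (74, 4), (73, 3), (72, 2), (71, 1), (70, 7),
    (69, 6), (68, 5), (67, 4), (66, 3), (65, 2), (64, 1), (63, 7), (62, 5), (61, 4), (60, 3),
    (59, 2), (58, 7), (57, 5), (56, 4), (55, 3), (54, 0), (55, 4), (54, 3), (53, 1), (52, 7),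
    (51, 6), (50, 5), (49, 4), (48, 3), (47, 2), (46, 1), (45, 7), (44, 6), (43, 5), (42, 4),
    (41, 3), (40, 2), (39, 0), (72, 5), (71, 4), (70, 3), (69, 2), (68, 1), (67, 7), (66, 6),
    (65, 5), (64, 4), (63, 3), (62, 2), (61, 1), (60, 7), (59, 5), (58, 4), (57, 3), (56, 2),
    (55, 7), (54, 4), (53, 3), (52, 1), (51, 0), (52, 3), (51, 1), (50, 6), (49, 5), (48, 4),
    (47, 3), (46, 2), (45, 1), (44, 7), (43, 6), (42, 5), (41, 4), (40, 3), (39, 2), (38, 7),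
    (37, 6), (36, 0), (39, 3), (38, 2), (37, 7), (36, 6), (35, 4), (34, 3), (33, 2), (32, 1),
    (31, 7), (30, 5), (29, 4), (28, 3), (27, 2), (26, 7), (25, 6), (24, 5), (23, 4), (22, 3),
    (21, 2), (20, 1), (19, 7), (18, 6), (17, 5), (16, 4), (15, 3), (14, 2), (13, 1), (12, 7),
    (11, 0), (29, 5), (28, 4), (27, 3), (26, 2), (25, 7), (24, 6), (23, 5), (22, 4), (21, 3),
    (20, 2), (19, 1), (18, 7), (17, 6), (16, 5), (15, 4), (14, 3), (13, 2), (12, 1), (11, 7),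
    (10, 5), (9, 4), (8, 3), (7, 2), (6, 0), (38, 6), (37, 5), (36, 3), (35, 2), (34, 7), (33,
    6), (32, 4), (31, 3), (30, 2), (29, 1), (28, 5), (27, 4), (26, 3), (25, 2), (24, 7), (23,
    6), (22, 5), (21, 4), (20, 3), (19, 2), (18, 1), (17, 7), (16, 6), (15, 0), (50, 5), (49,
    4), (48, 3), (47, 2), (46, 7), (45, 3), (44, 1), (43, 6), (42, 5), (41, 4), (40, 3), (39,
    2), (38, 1), (37, 6), (36, 5), (35, 3), (34, 0), (53, 4), (52, 3), (51, 2), (50, 1), (49,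
    5), (48, 4), (47, 3), (46, 2), (45, 7), (44, 3), (43, 0), (44, 7), (43, 3), (42, 6), (41,
    5), (40, 4), (39, 3), (38, 2), (37, 1), (36, 6), (35, 5), (34, 3), (33, 7), (32, 6), (31,
    4), (30, 3), (29, 2), (28, 1), (27, 5), (26, 4), (25, 3), (24, 2), (23, 7), (22, 0), (35,
    6), (34, 5), (33, 3), (32, 7), (31, 6), (30, 4), (29, 3), (28, 2), (27, 1), (26, 5), (25,
    4), (24, 3), (23, 2), (22, 7), (21, 5), (20, 4), (19, 3), (18, 2), (17, 1), (16, 7), (15,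
    6), (14, 4), (13, 3), (12, 2), (11, 0), (41, 7), (40, 3), (39, 6), (38, 5), (37, 4), (36,
    3), (35, 2), (34, 6), (33, 5), (32, 3), (31, 7), (30, 6), (29, 4), (28, 3), (27, 2), (26,
    1), (25, 5), (24, 4), (23, 3), (22, 2), (21, 7), (20, 5), (19, 0), (46, 4), (45, 3), (44,
    2), (43, 1), (42, 5), (41, 4), (40, 7), (39, 3), (38, 6), (37, 5), (36, 4), (35, 0), (35,
    4), (34, 2), (33, 6), (32, 5), (31, 3), (30, 7), (29, 6), (28, 4), (27, 3), (26, 2), (25,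
    1), (24, 5), (23, 4), (22, 3), (21, 2), (20, 7), (19, 5), (18, 3), (17, 2), (16, 0), (34,
    4), (33, 2), (32, 0), (45, 3), (44, 2), (43, 1), (42, 7), (41, 4), (40, 3), (39, 2), (38,
    1), (37, 5), (36, 4), (35, 7), (34, 3), (33, 4), (32, 2), (31, 5), (30, 0), (51, 5), (50,
    4), (49, 3), (48, 2), (47, 1), (46, 7), (45, 5), (44, 3), (43, 2), (42, 0), (54, 4), (53,
    3), (52, 2), (51, 1), (50, 5), (49, 4), (48, 3), (47, 2), (46, 0), (55, 7), (54, 6), (53,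
    4), (52, 3), (51, 2), (50, 1), (49, 5), (48, 4), (47, 3), (46, 2), (45, 7), (44, 5), (43,
    3), (42, 2), (41, 0), (41, 2), (40, 4), (39, 3), (38, 2), (37, 1), (36, 5), (35, 4), (34,
    7), (33, 3), (32, 4), (31, 2), (30, 5), (29, 7), (28, 6), (27, 4), (26, 3), (25, 0), (42,
    7), (41, 5), (40, 0), (43, 4), (42, 3), (41, 7), (40, 5), (39, 4), (38, 3), (37, 2), (36,
    1), (35, 5), (34, 4), (33, 0), (53, 6), (52, 5), (51, 4), (50, 3), (49, 2), (48, 7), (47,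
    6), (46, 4), (45, 3), (44, 2), (43, 1), (42, 4), (41, 0), (40, 7), (39, 5), (38, 4), (37,
    3), (36, 2), (35, 1), (34, 0), (36, 3), (35, 2), (34, 1), (33, 4), (32, 3), (31, 4), (30,
    2), (29, 5), (28, 7), (27, 6), (26, 4), (25, 3), (24, 0), (42, 6), (41, 4), (40, 3), (39,
    2), (38, 1), (37, 7), (36, 5), (35, 3), (34, 2), (33, 0), (43, 3), (42, 2), (41, 6), (40,
    4), (39, 3), (38, 0), (46, 2), (45, 1), (44, 6), (43, 5), (42, 3), (41, 2), (40, 6), (39,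
    4), (38, 3), (37, 0), (50, 1), (49, 7), (48, 6), (47, 5), (46, 4), (45, 2), (44, 0), (54,
    7), (53, 6), (52, 5), (51, 4), (50, 3), (49, 0), (46, 5), (45, 4), (44, 2), (43, 6), (42,
    5), (41, 3), (40, 2), (39, 6), (38, 4), (37, 3), (36, 7), (35, 5), (34, 3), (33, 2), (32,
    4), (31, 3), (30, 0), (48, 4), (47, 3), (46, 7), (45, 5), (44, 4), (43, 2), (42, 6), (41,
    5), (40, 3), (39, 2), (38, 6), (37, 4), (36, 3), (35, 7), (34, 5), (33, 3), (32, 2), (31,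
    4), (30, 3), (29, 2), (28, 0), (31, 2), (30, 4), (29, 3), (28, 2), (27, 7), (26, 6), (25,
    4), (24, 3), (23, 5), (22, 4), (21, 3), (20, 2), (19, 7), (18, 5), (17, 3), (16, 0), (23,
    3), (22, 5), (21, 4), (20, 3), (19, 2), (18, 7), (17, 5), (16, 3), (15, 7), (14, 6), (13,
    4), (12, 3), (11, 2), (10, 0), (36, 5), (35, 3), (34, 2), (33, 6), (32, 4), (31, 3), (30,
    7), (29, 5), (28, 2), (27, 4), (26, 3), (25, 2), (24, 7), (23, 6), (22, 0), (23, 7), (22,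
    6), (21, 5), (20, 4), (19, 3), (18, 2), (17, 7), (16, 5), (15, 3), (14, 0), (35, 4), (34,
    2), (33, 5), (32, 3), (31, 2), (30, 6), (29, 4), (28, 3), (27, 7), (26, 5), (25, 0), (28,
    4), (27, 3), (26, 7), (25, 5), (24, 4), (23, 3), (22, 7), (21, 6), (20, 5), (19, 4), (18,
    3), (17, 2), (16, 0), (18, 4), (17, 3), (16, 2), (15, 5), (14, 3), (13, 6), (12, 4), (11,
    3), (10, 0), (23, 7), (22, 5), (21, 4), (20, 3), (19, 7), (18, 6), (17, 4), (16, 0), (25,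
    3), (24, 2), (23, 4), (22, 7), (21, 5), (20, 0), (16, 4), (15, 2), (14, 5), (13, 3), (12,
    6), (11, 4), (10, 3), (9, 5), (8, 4), (7, 0), (10, 4), (9, 3), (8, 5), (7, 4), (6, 2), (5,
    7), (4, 6), (3, 5), (2, 0), (12, 2), (11, 5), (10, 3), (9, 4), (8, 3), (7, 5), (6, 0), (13,
    3), (12, 7), (11, 2), (10, 0), (17, 2), (16, 3), (15, 2), (14, 4), (13, 7), (12, 3), (11,
    7), (10, 2), (9, 0), (20, 6), (19, 4), (18, 3), (17, 7), (16, 2), (15, 3), (14, 0), (21, 3),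
    (20, 2), (19, 6), (18, 4), (17, 3), (16, 7), (15, 0), (15, 7), (14, 3), (13, 4), (12, 0),
    (14, 7), (13, 3), (12, 4), (11, 0), (10, 7), (9, 2), (8, 0), (10, 3), (9, 7), (8, 2), (7,
    3), (6, 5), (5, 0), (11, 2), (10, 6), (9, 3), (8, 7), (7, 0), (7, 7), (6, 3), (5, 5), (4,
    0), (4, 5), (3, 6), (2, 5), (1, 0), (4, 7), (3, 5), (2, 6), (1, 0), (4, 2), (3, 7), (2, 0),
    (2, 7), (1, 6), (0, 0), (1, 7), (0, 0), (0, 0)]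

end Cfsg.Lib.OmegaSevenThree
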