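import Cfsg.Agent.Lib.OmegaSevenThree.Bound
import Cfsg.Agent.Lib.OmegaSevenThree.Cover
import Cfsg.Agent.Lib.OrthMult.Clifford
import Cfsg.Agent.Lib.Schur.Universe

/-!
# The Schur multiplier of PΩ(7, 3) is cyclic of order six
-/

set_option autoImplicit false
set_option maxRecDepth 100000

namespace Cfsg.Lib.OmegaSevenThree

open Cfsg.Lib.CosetEnum
open Cfsg.Lib.Linear.Orth
open Cfsg.Lib.OrthMult
open scoped Matrix

/-- A commutative group of order dividing six is cyclic. -/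
theorem isCyclic_of_card_dvd_six {A : Type*} [CommGroup A] (h : Nat.card A ∣ 6) : IsCyclic A := by
  haveI : Finite A := Nat.finite_of_card_ne_zero fun e => by rw [e] at h; omega
  have hle : Nat.card A ∈ Nat.divisors 6 := Nat.mem_divisors.2 ⟨h, by norm_num⟩
  rw [show Nat.divisors 6 = {1, 2, 3, 6} by decide] at hle
  simp only [Finset.mem_insert, Finset.mem_singleton] at hle
  haveI : Fact (Nat.Prime 2) := ⟨Nat.prime_two⟩
  haveI : Fact (Nat.Prime 3) := ⟨Nat.prime_three⟩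
  rcases hle with e | e | e | e
  · exact isCyclic_of_orderOf_eq_card (1 : A) (by rw [orderOf_one, e])
  · exact isCyclic_of_prime_card e
  · exact isCyclic_of_prime_card e
  · obtain ⟨a, ha⟩ := exists_prime_orderOf_dvd_card' (G := A) 2 (by omega)
    obtain ⟨b, hb⟩ := exists_prime_orderOf_dvd_card' (G := A) 3 (by omega)
    refine isCyclic_of_orderOf_eq_card (a * b) ?_
    rw [(Commute.all a b).orderOf_mul_eq_mul_orderOf_of_coprime (by rw [ha, hb]; decide), ha, hb, e]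

/-- `Ω` maps isomorphically onto `PΩ`. -/
noncomputable def omegaSevenEquiv : Cfsg.Omega (ZMod 3) (Cfsg.quadFormOdd 3 (ZMod 3)) ≃*
    Cfsg.POmega (ZMod 3) (Cfsg.quadFormOdd 3 (ZMod 3)) :=
  MulEquiv.ofBijective (QuotientGroup.mk' _)
    (haveI : Finite (Cfsg.Omega (ZMod 3) (Cfsg.quadFormOdd 3 (ZMod 3))) := inferInstance
     (QuotientGroup.mk'_surjective _).bijective_of_nat_card_le (by rw [O73.card_omega.1, O73.card_omega.2]))

/-- A perfect stem extension with an involution in the kernel gives one with kernel of order two. -/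
theorem double_of_stem {D : Type} [Group D] {Ω : Type} [Group Ω] (π : D →* Ω) (hπ : Cfsg.IsStemExtension π)
    (hp : commutator D = ⊤) (e : Ω ≃* M) (z : D) (hz : π z = 1) (hz1 : z ≠ 1) (hz2 : z ^ 2 = 1) :
    ∃ (E : Type) (_ : Group E) (σ : E →* M),
      Cfsg.IsStemExtension σ ∧ commutator E = ⊤ ∧ Nat.card σ.ker = 2 := by
  let σ : D →* M := e.toMonoidHom.comp π
  have hker : σ.ker = π.ker := by
    ext a
    simp [σ, MonoidHom.mem_ker]
  have hst : Cfsg.IsStemExtension σ :=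
    ⟨e.surjective.comp hπ.1, hker.le.trans hπ.2.1, hker.le.trans hπ.2.2⟩
  have hdvd := ker_dvd_six hst
  set t : σ.ker := ⟨z, hker.ge hz⟩ with ht
  have ht1 : t ≠ 1 := fun h => hz1 (congrArg Subtype.val h)
  have ht2 : t ^ 2 = 1 := Subtype.ext hz2
  haveI : Fact (Nat.Prime 2) := ⟨Nat.prime_two⟩
  have h2t : 2 ∣ Nat.card σ.ker := orderOf_eq_prime ht2 ht1 ▸ orderOf_dvd_natCard t
  have hcases : Nat.card σ.ker = 2 ∨ Nat.card σ.ker = 6 := by
    have hle : Nat.card σ.ker ∈ Nat.divisors 6 := Nat.mem_divisors.2 ⟨hdvd, by norm_num⟩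
    rw [show Nat.divisors 6 = {1, 2, 3, 6} by decide] at hle
    simp only [Finset.mem_insert, Finset.mem_singleton] at hle
    omega
  obtain ⟨N, hN, hNc⟩ : ∃ N : Subgroup (D), N ≤ σ.ker ∧ Nat.card N * 2 = Nat.card σ.ker := by
    rcases hcases with h | h
    · exact ⟨⊥, bot_le, by rw [Subgroup.card_bot, h]⟩
    · haveI : Finite σ.ker := Nat.finite_of_card_ne_zero (by omega)
      haveI : Fact (Nat.Prime 3) := ⟨Nat.prime_three⟩
      obtain ⟨a, ha⟩ := exists_prime_orderOf_dvd_card' (G := σ.ker) 3 (by omega)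
      exact ⟨Subgroup.zpowers (a : D), Subgroup.zpowers_le.2 a.2, by
        rw [Nat.card_zpowers, Subgroup.orderOf_coe, ha, h]⟩
  haveI : N.Normal := ⟨fun a ha b => by
    rw [Subgroup.mem_center_iff.1 (hst.2.1 (hN ha)) b, mul_inv_cancel_right]; exact ha⟩
  let q := QuotientGroup.mk' N
  let σ' : D ⧸ N →* M := QuotientGroup.lift N σ hN
  have hk' : σ'.ker = σ.ker.map q := by
    ext a
    obtain ⟨a, rfl⟩ := QuotientGroup.mk'_surjective N a
    refine ⟨fun h => ⟨a, h, rfl⟩, ?_⟩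
    rintro ⟨b, hb, hba⟩
    rw [MonoidHom.mem_ker, ← hba]
    exact hb
  have hperf : commutator (D ⧸ N) = ⊤ := by
    rw [commutator_def, ← Subgroup.map_top_of_surjective q (QuotientGroup.mk'_surjective N),
      ← Subgroup.map_commutator, ← commutator_def, hp]
  refine ⟨D ⧸ N, inferInstance, σ', ⟨fun a => ?_, ?_, hperf ▸ le_top⟩, hperf, ?_⟩
  · obtain ⟨x, hx⟩ := hst.1 a
    exact ⟨q x, hx⟩
  · rw [hk']
    rintro _ ⟨a, ha, rfl⟩
    refine Subgroup.mem_center_iff.2 fun b => ?_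
    obtain ⟨b, rfl⟩ := QuotientGroup.mk'_surjective N b
    rw [← map_mul, Subgroup.mem_center_iff.1 (hst.2.1 ha) b, map_mul]
  let φ : σ.ker →* σ'.ker := (q.comp σ.ker.subtype).codRestrict _ fun a => by
    rw [hk']; exact ⟨a.1, a.2, rfl⟩
  have hφs : Function.Surjective φ := by
    rintro ⟨b, hb⟩
    rw [hk'] at hb
    obtain ⟨a, ha, rfl⟩ := hb
    exact ⟨⟨a, ha⟩, rfl⟩
  have hφk : φ.ker = N.subgroupOf σ.ker := by
    ext a
    rw [MonoidHom.mem_ker, Subgroup.mem_subgroupOf]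
    exact ⟨fun h => (QuotientGroup.eq_one_iff _).1 (congrArg Subtype.val h),
      fun h => Subtype.ext ((QuotientGroup.eq_one_iff _).2 h)⟩
  have h3 := φ.ker.card_mul_index
  rw [Subgroup.index_ker, MonoidHom.range_eq_top.2 hφs, Subgroup.card_top, hφk,
    Nat.card_congr (Subgroup.subgroupOfEquivOfLe hN).toEquiv, ← hNc] at h3
  have hpos : 0 < Nat.card N := Nat.pos_of_ne_zero fun h => by rw [h] at hNc; omega
  exact Nat.eq_of_mul_eq_mul_left hpos h3

theorem exists_double : ∃ (E : Type) (_ : Group E) (σ : E →* M),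
    Cfsg.IsStemExtension σ ∧ commutator E = ⊤ ∧ Nat.card σ.ker = 2 := by
  classical
  have h2 : (2 : ZMod 3) ≠ 0 := by decide
  obtain ⟨B, C⟩ := exists_space (isQuad_odd (F := ZMod 3) 3 h2)
  have h7 : 7 ≤ Fintype.card (Unit ⊕ (Fin 3 ⊕ Fin 3)) := by rw [card_odd_index]
  obtain ⟨hs, hp⟩ := dblProj_stem C h2 (by omega) (omega_commutator C (Or.inl h7))
  obtain ⟨e⟩ := card_M.2
  obtain ⟨p, hp', hp1, hp2⟩ := exists_neg_one C h2 h7
  haveI := cl_nontrivial C h2
  refine double_of_stem (dblProj C) hs hp (omegaSevenEquiv.trans e.symm) ⟨p, hp'⟩ hp2 ?_ ?_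
  · intro h
    have h1 : (p.1.1 : CliffordAlgebra (formOf C)) = 1 := congrArg
      (fun x : Dbl C => ((x : cover C).1.1 : CliffordAlgebra (formOf C))) h
    rw [hp1, ← map_one (algebraMap (ZMod 3) (CliffordAlgebra (formOf C))), ← map_neg] at h1
    have h3 := (algebraMap (ZMod 3) (CliffordAlgebra (formOf C))).injective h1
    exact absurd h3 (by decide)
  · refine Subtype.ext (Subtype.ext (Prod.ext (Units.ext ?_) ?_))
    · show ((p.1.1 : CliffordAlgebra (formOf C)) ^ 2) = 1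
      rw [hp1, neg_one_sq]
    · show p.1.2 ^ 2 = 1
      rw [show p.1.2 = 1 from hp2, one_pow]

theorem multiplier_M : Cfsg.HasCyclicSchurMultiplier M 6 := by
  have := finite_M
  obtain ⟨E₁, _, σ₁, h₁, p₁, c₁⟩ := exists_double
  obtain ⟨E₂, _, σ₂, h₂, p₂, c₂⟩ := exists_triple
  obtain ⟨D, _, σ, hσ, hc⟩ := fibre_cover h₁ h₂ p₁ p₂ (by rw [c₁, c₂]; decide)
  rw [c₁, c₂] at hc
  have cyc : ∀ {E : Type} [Group E] {τ : E →* M}, Cfsg.IsStemExtension τ → IsCyclic τ.ker := by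
    intro E _ τ hτ
    have hd := ker_dvd_six hτ
    haveI : Finite τ.ker := Nat.finite_of_card_ne_zero fun h => by rw [h] at hd; omega
    letI : CommGroup τ.ker := { (inferInstance : Group τ.ker) with
      mul_comm := fun a b => Subtype.ext (Subgroup.mem_center_iff.1 (hτ.2.1 b.2) a.1) }
    exact isCyclic_of_card_dvd_six hd
  haveI : Finite σ.ker := Nat.finite_of_card_ne_zero (by rw [hc]; norm_num)
  haveI : Finite (D ⧸ σ.ker) := Finite.of_equiv M (QuotientGroup.quotientKerEquivOfSurjective σ hσ.1).symm.toEquiv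
  haveI : Finite D := Finite.of_subgroup_quotient σ.ker
  refine ⟨⟨D, inferInstance, inferInstance, σ, hσ, ⟨(zmodCyclicMulEquiv (cyc hσ)).symm.trans
    (AddEquiv.toMultiplicative (ZMod.ringEquivCongr (by rw [hc])).toAddEquiv)⟩⟩, fun Γ _ _ τ hτ => ?_⟩
  let φ : ZMod 6 →+* ZMod (Nat.card τ.ker) := ZMod.castHom (ker_dvd_six hτ) _
  refine ⟨(zmodCyclicMulEquiv (cyc hτ)).toMonoidHom.comp (AddMonoidHom.toMultiplicative φ.toAddMonoidHom),
    (zmodCyclicMulEquiv (cyc hτ)).surjective.comp fun a => ?_⟩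
  obtain ⟨b, hb⟩ := ZMod.ringHom_surjective φ (Multiplicative.toAdd a)
  exact ⟨Multiplicative.ofAdd b, by
    show Multiplicative.ofAdd (φ b) = a
    rw [hb]; rfl⟩

universe u

variable {F : Type u} [Field F]

/-- The group along a ring isomorphism. -/
theorem pomega_congr (φ : ZMod 3 ≃+* F) :
    Nonempty (Cfsg.POmega (ZMod 3) (Cfsg.quadFormOdd 3 (ZMod 3)) ≃* Cfsg.POmega F (Cfsg.quadFormOdd 3 F)) := by
  let e0 : GL (Unit ⊕ (Fin 3 ⊕ Fin 3)) (ZMod 3) ≃* GL (Unit ⊕ (Fin 3 ⊕ Fin 3)) F :=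
    Units.mapEquiv φ.mapMatrix.toMulEquiv
  have hv : ∀ (g : GL (Unit ⊕ (Fin 3 ⊕ Fin 3)) (ZMod 3)) (v : Unit ⊕ (Fin 3 ⊕ Fin 3) → ZMod 3),
      (e0 g).1 *ᵥ (φ ∘ v) = φ ∘ (g.1 *ᵥ v) := fun g v => by
    funext i
    simp [e0, Matrix.mulVec, dotProduct, map_sum]
  have hq : ∀ v : Unit ⊕ (Fin 3 ⊕ Fin 3) → ZMod 3,
      Cfsg.quadFormOdd 3 F (φ ∘ v) = φ (Cfsg.quadFormOdd 3 (ZMod 3) v) := fun v => by
    simp [Cfsg.quadFormOdd, map_sum]
  have hO : ∀ g, e0 g ∈ Cfsg.isometryGroup F (Cfsg.quadFormOdd 3 F) ↔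
      g ∈ Cfsg.isometryGroup (ZMod 3) (Cfsg.quadFormOdd 3 (ZMod 3)) := fun g => by
    rw [mem_iso, mem_iso]
    refine ⟨fun h v => φ.injective ?_, fun h v => ?_⟩
    · rw [← hq, ← hq, ← hv, h]
    · obtain ⟨w, rfl⟩ : ∃ w, v = φ ∘ w := ⟨φ.symm ∘ v, by funext i; simp⟩
      rw [hv, hq, hq]
      exact congrArg φ (h w)
  let eO : ↥(Cfsg.isometryGroup (ZMod 3) (Cfsg.quadFormOdd 3 (ZMod 3))) ≃*
      ↥(Cfsg.isometryGroup F (Cfsg.quadFormOdd 3 F)) :=
    (e0.subgroupMap _).trans (MulEquiv.subgroupCongr (by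
      ext a
      obtain ⟨g, rfl⟩ := e0.surjective a
      rw [hO]
      simp))
  let eΩ : ↥(Cfsg.Omega (ZMod 3) (Cfsg.quadFormOdd 3 (ZMod 3))) ≃* ↥(Cfsg.Omega F (Cfsg.quadFormOdd 3 F)) :=
    (eO.subgroupMap _).trans (MulEquiv.subgroupCongr (by
      show (commutator _).map _ = commutator _
      rw [commutator_def, commutator_def, Subgroup.map_commutator,
        Subgroup.map_top_of_surjective _ eO.surjective]))
  refine ⟨QuotientGroup.congr _ _ eΩ ?_⟩
  ext a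
  refine ⟨?_, fun ha => ⟨eΩ.symm a, Subgroup.mem_center_iff.2 fun y => eΩ.injective ?_, eΩ.apply_symm_apply a⟩⟩
  · rintro ⟨z, hz, rfl⟩
    refine Subgroup.mem_center_iff.2 fun y => ?_
    obtain ⟨w, rfl⟩ := eΩ.surjective y
    simpa using congrArg eΩ (Subgroup.mem_center_iff.1 hz w)
  · simpa using Subgroup.mem_center_iff.1 ha (eΩ y)

/-- The multiplier over any field with three elements. -/
theorem multiplier_of_card [Fintype F] (hF : Fintype.card F = 3) :
    Cfsg.HasCyclicSchurMultiplier (Cfsg.POmega F (Cfsg.quadFormOdd 3 F)) 6 := by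
  obtain ⟨e⟩ := card_M.2
  obtain ⟨e'⟩ := pomega_congr (ZMod.ringEquivOfPrime F Nat.prime_three hF)
  exact Cfsg.Lib.Schur.hasSchur_of_equiv (e.trans e') multiplier_M

end Cfsg.Lib.OmegaSevenThree
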