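import Cfsg.Agent.Lib.OmegaSevenThree.Table

/-!
# A presentation of PΩ(7, 3) by eight reflections
-/

set_option autoImplicit false
set_option maxRecDepth 100000

namespace Cfsg.Lib.OmegaSevenThree

open Cfsg.Lib.CosetEnum

/-- The relators on the letters from one to eight. -/
def R8 : List (List Nat) := rels.map fun r => r.map (· + 1)

theorem sub8 : Fi22Sub_bcdefghi.step.Valid R8 := Fi22Sub_bcdefghi.step_valid (by decide +kernel)

theorem sub7 : Fi22Sub_bcdefgh.step.Valid R8 := Fi22Sub_bcdefgh.step_valid (by decide +kernel)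

theorem sub6 : Fi22Sub_bcdefg.step.Valid R8 := Fi22Sub_bcdefg.step_valid (by decide +kernel)

theorem sub5 : Fi22Sub_bcdef.step.Valid R8 := Fi22Sub_bcdef.step_valid (by decide +kernel)

theorem sub4 : Fi22Sub_bcde.step.Valid R8 := Fi22Sub_bcde.step_valid (by decide +kernel)

theorem sub3 : Fi22Sub_bcd.step.Valid R8 := Fi22Sub_bcd.step_valid (by decide +kernel)

theorem sub2 : Fi22Sub_bc.step.Valid R8 := Fi22Sub_bc.step_valid (by decide +kernel)

theorem sub1 : Fi22Sub_b.step.Valid R8 := Fi22Sub_b.step_valid (by decide +kernel)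

/-- Renumbering the letters of a word. -/
theorem wordVal_succ {G : Type*} [Group G] (u : ℕ → G) : ∀ {w : List ℕ}, (∀ g ∈ w, g < 8) →
    wordVal u (w.map (· + 1)) = wordVal (fun g => u (g + 1)) w
  | [], _ => rfl
  | g :: w, h => by
    have hg : g < 8 := h g (by simp)
    rw [List.map_cons, wordVal, wordVal, wordVal_succ u fun a ha => h a (by simp [ha]), gen, gen,
      if_neg (by simp only [eps]; omega), if_neg (by simp only [eps]; omega)]

theorem rels_lt : ∀ r ∈ rels, ∀ g ∈ r, g < 8 := fun r hr => by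
  simpa using List.all_eq_true.1 shapes.2.1 r hr

/-- A word in pairs, componentwise. -/
theorem wordVal_prod {A B : Type*} [Group A] [Group B] (z : ℕ → A × B) (w : List ℕ) :
    wordVal z w = (wordVal (fun g => (z g).1) w, wordVal (fun g => (z g).2) w) :=
  Prod.ext (map_wordVal (MonoidHom.fst A B) z w) (map_wordVal (MonoidHom.snd A B) z w)

/-- Involutions satisfying the relators are images of the reflections. -/
theorem presented (Γ : Type) [Group Γ] (y : ℕ → Γ) (hy : ∀ g, y g * y g = 1)
    (hrel : ∀ r ∈ rels, wordVal y r = 1) : ∃ s : M →* Γ, ∀ g < 8, s (x g) = y g := by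
  have := finite_M
  let X : ℕ → M × Γ := fun g => if 1 ≤ g ∧ g ≤ 8 then (x (g - 1), y (g - 1)) else 1
  have hX : ∀ g, X g * X g = 1 := by
    intro g
    simp only [X]
    split
    · exact Prod.ext (x_sq _) (hy _)
    · exact one_mul 1
  have hX1 : ∀ g < 8, X (g + 1) = (x g, y g) := fun g hg => by
    simp only [X, if_pos (show 1 ≤ g + 1 ∧ g + 1 ≤ 8 by omega), Nat.add_sub_cancel]
  have hR : ∀ r ∈ R8, wordVal X r = 1 := by
    intro r hr
    obtain ⟨r, hr', rfl⟩ := List.mem_map.1 hr
    have hlt := rels_lt r hr'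
    rw [wordVal_succ X hlt, show wordVal (fun g => X (g + 1)) r = wordVal (fun g => (x g, y g)) r from ?_,
      wordVal_prod, rels_hold r hr', hrel r hr']
    · rfl
    · clear hr hr'
      induction r with
      | nil => rfl
      | cons g w ih =>
        rw [wordVal, wordVal, ih fun a ha => hlt a (by simp [ha]), gen, gen,
          if_neg (by have := hlt g (by simp); simp only [eps]; omega),
          if_neg (by have := hlt g (by simp); simp only [eps]; omega), hX1 g (hlt g (by simp))]
  have c9 := sub1.card_le hX hR (K := ⊥) (by simp [Fi22Sub_b.step, Fi22Sub_b.subWords])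
    inferInstance (m := 1) (by rw [Subgroup.card_bot])
  have c8 := sub2.card_le hX hR (inLetters_mem X (S := Fi22Sub_b.step.S) (by decide +kernel)) c9.1 c9.2
  have c7 := sub3.card_le hX hR (inLetters_mem X (S := Fi22Sub_bc.step.S) (by decide +kernel)) c8.1 c8.2
  have c6 := sub4.card_le hX hR (inLetters_mem X (S := Fi22Sub_bcd.step.S) (by decide +kernel)) c7.1 c7.2
  have c5 := sub5.card_le hX hR (inLetters_mem X (S := Fi22Sub_bcde.step.S) (by decide +kernel)) c6.1 c6.2
  have c4 := sub6.card_le hX hR (inLetters_mem X (S := Fi22Sub_bcdef.step.S) (by decide +kernel)) c5.1 c5.2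
  have c3 := sub7.card_le hX hR (inLetters_mem X (S := Fi22Sub_bcdefg.step.S) (by decide +kernel)) c4.1 c4.2
  have c2 := sub8.card_le hX hR (inLetters_mem X (S := Fi22Sub_bcdefgh.step.S) (by decide +kernel)) c3.1 c3.2
  obtain ⟨hfin, hle⟩ := c2
  set H := Subgroup.closure (X '' {g | g ∈ Fi22Sub_bcdefghi.step.S}) with hH
  replace hle : Nat.card H ≤ 4585351680 := le_trans hle (by decide +kernel)
  have hS : ∀ g < 8, (x g, y g) ∈ H := fun g hg => Subgroup.subset_closure
    ⟨g + 1, (show ∀ g < 8, g + 1 ∈ Fi22Sub_bcdefghi.step.S by decide +kernel) g hg, hX1 g hg⟩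
  let π₁ : H →* M := (MonoidHom.fst M Γ).comp H.subtype
  have hs : Function.Surjective π₁ := by
    rw [← MonoidHom.range_eq_top, eq_top_iff, ← gen_x, Subgroup.closure_le]
    rintro _ ⟨g, hg, rfl⟩
    exact ⟨⟨_, hS g hg⟩, rfl⟩
  let e : H ≃* M := MulEquiv.ofBijective π₁ (hs.bijective_of_nat_card_le (by rw [card_M.1]; exact hle))
  refine ⟨((MonoidHom.snd M Γ).comp H.subtype).comp e.symm.toMonoidHom, fun g hg => ?_⟩
  have he : e.symm (x g) = ⟨_, hS g hg⟩ := e.injective (by rw [e.apply_symm_apply]; rfl)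
  show ((e.symm (x g) : H) : M × Γ).2 = y g
  rw [he]

end Cfsg.Lib.OmegaSevenThree
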