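import Cfsg.Agent.Lib.OmegaSevenThree.Checks
import Cfsg.Agent.Lib.CosetEnum.Trans.Basic
import Cfsg.Agent.S1686

/-!
# PΩ(7, 3) as permutations of its 351 reflections
-/

set_option autoImplicit false
set_option maxRecDepth 100000

namespace Cfsg.Lib.OmegaSevenThree

open Cfsg.Lib.CosetEnum
open Fi22O73Pts (tabP words1)

/-- The group of the 351 points. -/
noncomputable def M : Subgroup (Equiv.Perm (Fin 351)) :=
  Subgroup.closure (tperm tabP 8 351 '' {g | g < 8})

/-- A generator. -/
noncomputable def x (g : ℕ) : M :=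
  if h : g < 8 then ⟨tperm tabP 8 351 g, Subgroup.subset_closure ⟨g, h, rfl⟩⟩ else 1

theorem x_sq (g : ℕ) : x g * x g = 1 := by
  unfold x
  split
  · exact Subtype.ext (tperm_mul_self _ _ _ _)
  · exact one_mul 1

theorem x_val {g : ℕ} (hg : g < 8) : M.subtype (x g) = tperm tabP 8 351 g := by
  unfold x
  rw [dif_pos hg]
  rfl

theorem walk {w : List ℕ} (hw : ∀ g ∈ w, g < 8) (i : Fin 351) :
    (M.subtype (wordVal x w) i).1 = twalk tabP 8 w i.1 := by
  rw [map_wordVal_tperm x M.subtype (by decide) (fun g hg => x_val hg) hw]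
  exact wordVal_tperm perm_rels (by decide) w hw i

theorem eq_of_walk {u v : List ℕ} (hu : ∀ g ∈ u, g < 8) (hv : ∀ g ∈ v, g < 8)
    (h : ∀ r < 351, twalk tabP 8 u r = twalk tabP 8 v r) : wordVal x u = wordVal x v := by
  refine M.subtype_injective (Equiv.ext fun i => Fin.ext ?_)
  rw [walk hu, walk hv]
  exact h i.1 i.2

theorem x_single {g : ℕ} (hg : g < 8) : wordVal x [g] = x g := by
  simp [wordVal, gen, show g ≠ eps by simp only [eps]; omega]

theorem conjWord_val (w : List ℕ) : wordVal x (conjWord w) = wordVal x w * x 0 * (wordVal x w)⁻¹ := by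
  rw [conjWord, wordVal_append, wordVal_append, wordVal_reverse x_sq, x_single (by decide), mul_assoc]

theorem gen_x : Subgroup.closure (x '' {g | g < 8}) = ⊤ := by
  apply Subgroup.map_injective M.subtype_injective
  rw [MonoidHom.map_closure, ← MonoidHom.range_eq_map, Subgroup.range_subtype, ← Set.image_comp]
  show _ = Subgroup.closure _
  congr 1
  exact Set.image_congr fun g hg => x_val hg

theorem rels_hold : ∀ r ∈ rels, wordVal x r = 1 := by
  intro r hr
  have hlt : ∀ g ∈ r, g < 8 := by
    simpa using List.all_eq_true.1 shapes.2.1 r hr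
  refine M.subtype_injective ?_
  rw [map_one, map_wordVal_tperm x M.subtype (by decide) (fun g hg => x_val hg) hlt]
  exact wordVal_tperm_eq_one perm_rels (by decide) hr

theorem word_facts {g : ℕ} (hg : g < 8) : (∀ a ∈ words.getD g [], a < 8) ∧ pts.getD g 0 < 351 ∧
    twalk tabP 8 (words.getD g []) 0 = pts.getD g 0 ∧ wordVal x (conjWord (words.getD g [])) = x g := by
  have h := List.all_eq_true.1 gens_moved g (List.mem_range.2 hg)
  simp only [Bool.and_eq_true, List.all_eq_true, Nat.blt_eq, Nat.beq_eq, List.mem_range, and_assoc] at h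
  obtain ⟨h1, h2, h3, h4⟩ := h
  refine ⟨h1, h2, h3, ?_⟩
  rw [← x_single hg]
  refine eq_of_walk ?_ (by simpa using hg) fun r hr => ?_
  · intro a ha
    simp only [conjWord, List.mem_append, List.mem_reverse, List.mem_singleton] at ha
    rcases ha with (ha | rfl) | ha
    exacts [h1 a ha, by decide, h1 a ha]
  · rw [h4 r hr, twalk_cons, twalk_nil]

theorem commutator_M : commutator M = ⊤ := by
  refine Cfsg.Agent.S1686.commutator_eq_top x gen_x x_sq ?_ (r := relRight) ?_ ⟨31, shapes.2.2.2.1⟩
    (rels_hold _ (by simp [rels]))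
  · intro p hp
    have h : p.1 < 8 ∧ p.2 < 8 ∧ (List.replicate 3 [p.1, p.2]).flatten ∈ rels := by
      revert p
      decide +kernel
    have h1 := rels_hold _ h.2.2
    rw [wordVal_replicate x _ _ (by simp only [eps]; omega) (by simp only [eps]; omega)] at h1
    rw [← inv_inj, ← inv_pow, mul_inv_rev, inv_eq_of_mul_eq_one_left (x_sq _),
      inv_eq_of_mul_eq_one_left (x_sq _), inv_one]
    exact h1
  · exact fun g hg => by simpa using List.all_eq_true.1 (List.all_eq_true.1 shapes.2.1 relRight (by simp [rels])) g hg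

theorem card_M : Nat.card M = 4585351680 ∧
    Nonempty (M ≃* Cfsg.POmega (ZMod 3) (Cfsg.quadFormOdd 3 (ZMod 3))) :=
  O73.equiv_pomega Cfsg.Agent.S1686.pt_distinct Cfsg.Agent.S1686.perm_induced commutator_M
    Cfsg.Agent.S1686.card_points_group

theorem finite_M : Finite M := inferInstance

/-- The first point. -/
def pt0 : Fin 351 := ⟨0, by norm_num⟩

theorem stab_words : ∀ u ∈ words1, (∀ a ∈ u, a < 8) ∧ M.subtype (wordVal x u) pt0 = pt0 ∧
    wordVal x u * x 0 = x 0 * wordVal x u := by
  intro u hu
  have h := List.all_eq_true.1 stab_commute u hu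
  simp only [Bool.and_eq_true, List.all_eq_true, Nat.blt_eq, Nat.beq_eq, List.mem_range, and_assoc] at h
  obtain ⟨h1, h2, h3⟩ := h
  refine ⟨h1, Fin.ext ((walk h1 pt0).trans h2), ?_⟩
  have := eq_of_walk (u := [0] ++ u) (v := u ++ [0])
    (by intro a ha; simp at ha; rcases ha with rfl | ha; exacts [by decide, h1 a ha])
    (by intro a ha; simp at ha; rcases ha with ha | rfl; exacts [h1 a ha, by decide]) fun r hr => (h3 r hr).symm
  rwa [wordVal_append, wordVal_append, x_single (by decide)] at this

/-- The stabiliser of the first point. -/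
noncomputable def stab0 : Subgroup M := (MulAction.stabilizer (Equiv.Perm (Fin 351)) pt0).comap M.subtype

theorem stab_eq : Subgroup.closure (wordVal x '' {u | u ∈ words1}) = stab0 := by
  have := finite_M
  refine Subgroup.eq_of_le_of_card_ge ?_ ?_
  · rw [Subgroup.closure_le]
    rintro _ ⟨u, hu, rfl⟩
    exact (stab_words u hu).2.1
  have hb : BaseOK tabP 8 351 [Fi22O73Pts.level1, Fi22O73Pts.level2,
      Fi22O73Pts.level3, Fi22O73Pts.level4, Fi22O73Pts.level5] :=
    ⟨Fi22O73Pts.nest1_ok, Fi22O73Pts.orbit1_ok, Fi22O73Pts.nest2_ok, Fi22O73Pts.orbit2_ok,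
      Fi22O73Pts.nest3_ok, Fi22O73Pts.orbit3_ok, Fi22O73Pts.nest4_ok, Fi22O73Pts.orbit4_ok,
      Fi22O73Pts.nest5_ok, Fi22O73Pts.orbit5_ok, trivial⟩
  have hK := base_le x M.subtype perm_rels (by decide) (fun g hg => x_val hg) hb
  rw [Subgroup.card_map_of_injective M.subtype_injective,
    show baseSize [Fi22O73Pts.level1, Fi22O73Pts.level2, Fi22O73Pts.level3, Fi22O73Pts.level4,
      Fi22O73Pts.level5] = 13063680 by decide +kernel] at hK
  refine le_trans ?_ hK
  let _ : MulAction M (Fin 351) := MulAction.compHom (Fin 351) M.subtype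
  have hst : stab0 = MulAction.stabilizer M pt0 := rfl
  have horb : (MulAction.orbit M pt0).ncard = 351 := by
    have : MulAction.orbit M pt0 = Set.univ := by
      refine Set.eq_univ_of_forall fun p => ?_
      have h := List.all_eq_true.1 point_moved p.1 (List.mem_range.2 p.2)
      simp only [Bool.and_eq_true, List.all_eq_true, Nat.blt_eq, Nat.beq_eq, and_assoc] at h
      exact ⟨wordVal x (moveWords.getD p.1 []), Fin.ext ((walk h.1 pt0).trans h.2.1)⟩
    rw [this, Set.ncard_univ, Nat.card_fin]
  have h1 := Subgroup.card_mul_index (MulAction.stabilizer M pt0)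
  rw [MulAction.index_stabilizer, horb, card_M.1] at h1
  rw [hst]
  omega

/-- The table of the reflections. -/
noncomputable def table : TransTable M 351 where
  f := M.subtype
  inj := M.subtype_injective
  d := x 0
  p₀ := pt0
  trans p := by
    have h := List.all_eq_true.1 point_moved p.1 (List.mem_range.2 p.2)
    simp only [Bool.and_eq_true, List.all_eq_true, Nat.blt_eq, Nat.beq_eq, and_assoc] at h
    exact ⟨wordVal x (moveWords.getD p.1 []), Fin.ext ((walk h.1 pt0).trans h.2.1)⟩
  stab a := by
    have hcomm : ∀ b : M, M.subtype b pt0 = pt0 → b * x 0 = x 0 * b := by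
      intro b hb
      have hle : Subgroup.closure (wordVal x '' {u | u ∈ words1}) ≤ Subgroup.centralizer {x 0} := by
        rw [Subgroup.closure_le]
        rintro _ ⟨u, hu, rfl⟩
        exact Subgroup.mem_centralizer_singleton_iff.2 (stab_words u hu).2.2
      have hb' : b ∈ Subgroup.closure (wordVal x '' {u | u ∈ words1}) := by rw [stab_eq]; exact hb
      exact Subgroup.mem_centralizer_singleton_iff.1 (hle hb')
    refine ⟨hcomm a, fun h => ?_⟩
    set p := M.subtype a pt0 with hp
    have h' := List.all_eq_true.1 point_moved p.1 (List.mem_range.2 p.2)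
    simp only [Bool.and_eq_true, Bool.or_eq_true, List.all_eq_true, Nat.blt_eq, Nat.beq_eq,
      Bool.not_eq_true', and_assoc] at h'
    obtain ⟨hlt, hwp, hwit⟩ := h'
    refine Fin.ext (hwit.resolve_right fun hw => ?_)
    obtain ⟨hr, hne⟩ := hw
    set m := wordVal x (moveWords.getD p.1 [])
    have hm : M.subtype m pt0 = p := Fin.ext ((walk hlt pt0).trans hwp)
    have h2 := hcomm (m⁻¹ * a) (by
      rw [map_mul, map_inv, Equiv.Perm.mul_apply, ← hp, Equiv.Perm.inv_def, Equiv.symm_apply_eq, hm])
    have h3 : m * x 0 * m⁻¹ = x 0 := by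
      calc m * x 0 * m⁻¹ = m * (x 0 * (m⁻¹ * a)) * a⁻¹ := by group
        _ = m * (m⁻¹ * a * x 0) * a⁻¹ := by rw [h2]
        _ = a * x 0 * a⁻¹ := by group
        _ = x 0 := by rw [h, mul_inv_cancel_right]
    rw [← conjWord_val, ← x_single (show (0 : ℕ) < 8 by decide)] at h3
    have h4 := walk (w := conjWord (moveWords.getD p.1 [])) (by
      intro b hb
      simp only [conjWord, List.mem_append, List.mem_reverse, List.mem_singleton] at hb
      rcases hb with (hb | rfl) | hb
      exacts [hlt b hb, by decide, hlt b hb]) ⟨moveWit.getD p.1 0, hr⟩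
    rw [h3, walk (by simp), twalk_cons, twalk_nil] at h4
    simp only at h4
    rw [← h4] at hne
    simp at hne
  x := x
  Z := tabP
  k := 8
  R := rels
  perm := perm_rels
  k_le := by decide
  f_gen g hg := x_val hg
  gen := gen_x
  sq := x_sq
  pts := pts
  pts_spec g hg := by
    obtain ⟨h1, h2, h3, h4⟩ := word_facts hg
    refine ⟨h2, ?_⟩
    rw [show (⟨pts.getD g 0, h2⟩ : Fin 351) = M.subtype (wordVal x (words.getD g [])) pt0 from
      Fin.ext ((walk h1 pt0).trans h3).symm]
    rw [TransAct.delta_move, ← conjWord_val, h4]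

end Cfsg.Lib.OmegaSevenThree
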